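import Cfsg.Agent.Lib.CoTwoType.Twist.Tests

/-
The certificates of the twisted centraliser checked (helper33).

* `check_inv`, `check_sq`, `check_lift2`, `check_lift3`, `check_roots`, `check_flips`, `check_lines`, `check_trees`
-/

set_option autoImplicit false
set_option maxRecDepth 20000
set_option maxHeartbeats 4000000

namespace Cfsg.Agent.CoTwoType.Twist

open CoTwoClose (mulF cone)

theorem check_key_diff : allDiff ((List.range 512).map fun i => keyC (sC i)) = true := by decide +kernel

theorem check_inv : ((List.range 144).all okInv) = true := by decide +kernel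

theorem check_listed : ((List.range 512).all okListed) = true := by decide +kernel

theorem check_inv_len : CoTwoClose.ClassData.sInv.length = 144 := by decide +kernel

theorem check_sq : ((List.range 512).all okSq) = true := by decide +kernel

theorem check_tw : ∀ m < 4, keyC (wordF (tW m ++ tW m)) = keyC cone ∧
    (appV (tW m ++ tW m) 1 = 1 ∨ appV (tW m ++ tW m) 1 = 2) ∧ keyC (wordF (tW m)) ≠ keyC cone := by decide +kernel

theorem check_noinv : ((List.range 2).all fun m => (List.range 512).all fun v => !isInv m v) = true := by
  decide +kernel

theorem check_lift2 : ((List.range 512).all (okLift 2 Data.lift2 [0, 1])) = true := by decide +kernel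

theorem check_lift3 : ((List.range 512).all (okLift 3 Data.lift3 [0])) = true := by decide +kernel

theorem check_roots : ([(Data.rootA, (1, tW 2)), (Data.rootB, (0, tW 2)), (Data.rootC, (0, tW 3))].all fun p =>
    decide (p.1.1 < 512) && sameT (mulP p.1 p.1) (256, []) && commP p.1 p.2) = true := by decide +kernel

theorem check_cenA : ((List.range 512).all fun q => fixV (1, tW 2) q == Data.cenA.contains q) = true ∧
    allDiff Data.cenA = true ∧ Data.cenA.length = 64 ∧ (Data.cenA.all fun q => decide (q < 512)) = true := by
  decide +kernel

theorem check_cenB : (Data.cenB.all fun q => decide (q < 512) && fixV (0, tW 2) q) = true ∧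
    allDiff Data.cenB = true ∧ Data.cenB.length = 16 := by decide +kernel

theorem check_flips : ((List.range 512).all okFlip) = true := by decide +kernel

theorem check_radA : (radA.all fun q => Data.cenA.contains q && qm q q == 0 &&
    Data.cenA.all fun r => qm q r == qm r q) = true ∧ allDiff (radA.map (· % 256)) = true := by decide +kernel

theorem check_span : ((List.range 256).all okSpan) = true := by decide +kernel

theorem check_fix : fixCount (tW 2) = 64 ∧ fixCount (tW 3) = 16 := by decide +kernel

theorem check_lines :
    ((List.range 4).all fun i =>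
      decide ((Data.lines.getD i (0, [])).1 < 512) &&
      one1 (mulP (mulP (Data.lines.getD i (0, [])) (Data.lines.getD i (0, []))) (Data.lines.getD i (0, []))) &&
      keyC (wordF (Data.lines.getD i (0, [])).2) != keyC cone &&
      commP (Data.lines.getD i (0, [])) (0, tW 2) &&
      (List.range 4).all fun k => i == k ||
        (keyC (wordF (Data.lines.getD i (0, [])).2) != keyC (wordF (Data.lines.getD k (0, [])).2) &&
          keyC (wordF (Data.lines.getD i (0, [])).2) !=
            keyC (wordF ((Data.lines.getD k (0, [])).2 ++ (Data.lines.getD k (0, [])).2)))) = true ∧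
    commP (Data.lines.getD 0 (0, [])) (Data.lines.getD 1 (0, [])) = true ∧
    Data.lines.getD 2 (0, []) = mulP (Data.lines.getD 0 (0, [])) (Data.lines.getD 1 (0, [])) ∧
    Data.lines.getD 3 (0, []) = mulP (Data.lines.getD 0 (0, []))
      (mulP (Data.lines.getD 1 (0, [])) (Data.lines.getD 1 (0, []))) := by decide +kernel

theorem check_lineRoots : ([0, 2, 3].all fun i =>
    decide ((Data.lineRoots.getD i (0, [])).1 < 512) &&
    sameT (mulP (Data.lineRoots.getD i (0, [])) (Data.lineRoots.getD i (0, []))) (256, []) &&
    commP (Data.lineRoots.getD i (0, [])) (0, tW 2) &&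
    commP (Data.lineRoots.getD i (0, [])) (Data.lines.getD i (0, []))) = true := by decide +kernel

theorem check_orbT : okTree conjOp ((List.range 7).map fun j => conjGen [Fin.ofNat 7 j]) (wordF (tW 2)) Data.orbT = true ∧
    allDiff (Data.orbT.map fun p => keyC p.1) = true ∧ Data.orbT.length = 315 := by decide +kernel

theorem check_centGens : (Data.centGens.all fun w =>
    keyC (mulF (wordF w) (wordF (tW 2))) == keyC (mulF (wordF (tW 2)) (wordF w))) = true := by decide +kernel

theorem check_orbX0 : okTree conjOp (Data.centGens.map conjGen) (wordF (Data.lines.getD 0 (0, [])).2) Data.orbX0 = true ∧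
    allDiff (Data.orbX0.map fun p => keyC p.1) = true ∧ Data.orbX0.length = 32 := by decide +kernel

theorem check_orbX1 : okTree conjOp (Data.centGens.map conjGen) (wordF (Data.lines.getD 1 (0, [])).2) Data.orbX1 = true ∧
    allDiff (Data.orbX1.map fun p => keyC p.1) = true ∧ Data.orbX1.length = 128 := by decide +kernel

theorem check_sub0 : okTree mulF (Data.subGens0.map wordF) cone Data.sub0 = true ∧
    allDiff (Data.sub0.map fun p => keyC p.1) = true ∧ Data.sub0.length = 144 ∧
    (Data.subGens0.all fun w =>
      keyC (mulF (wordF w) (wordF (tW 2))) == keyC (mulF (wordF (tW 2)) (wordF w)) &&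
      keyC (mulF (wordF w) (wordF (Data.lines.getD 0 (0, [])).2)) ==
        keyC (mulF (wordF (Data.lines.getD 0 (0, [])).2) (wordF w))) = true ∧
    (Data.sub0.all fun p => keyC (mulF p.1 p.1) != keyC (wordF (tW 2))) = true := by decide +kernel

theorem check_sub1 : okTree mulF (Data.subGens1.map wordF) cone Data.sub1 = true ∧
    allDiff (Data.sub1.map fun p => keyC p.1) = true ∧ Data.sub1.length = 36 ∧
    (Data.subGens1.all fun w =>
      keyC (mulF (wordF w) (wordF (tW 2))) == keyC (mulF (wordF (tW 2)) (wordF w)) &&
      keyC (mulF (wordF w) (wordF (Data.lines.getD 1 (0, [])).2)) ==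
        keyC (mulF (wordF (Data.lines.getD 1 (0, [])).2) (wordF w))) = true ∧
    (Data.sub1.all fun p => keyC (mulF p.1 p.1) != keyC (wordF (tW 2))) = true := by decide +kernel

end Cfsg.Agent.CoTwoType.Twist
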