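import Cfsg.Agent.Lib.CoTwoType.Twist.Fusion
import Cfsg.Agent.Lib.CoTwoType.CaseR.FixerEight

/-
The first class of involutions of the twisted centraliser (helper33).

* `Base.commute_x_iff` : a vector commutes with a pair when it is fixed
* `Base.not_repA` : the first class does not meet the class of `z`
-/

set_option autoImplicit false
set_option linter.style.haveILetI false
set_option maxRecDepth 20000

namespace Cfsg.Agent.CoTwoType

open Cfsg.Agent.Multiplier.Sp6 Twist CaseR

universe u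

variable {G : Type u} [Group G] {z : G}

namespace Base

variable (L : Base z)

theorem x_xor {v : ℕ} (hv : v < 512) : L.x v * z = L.x (v ^^^ 256) := by
  rw [show L.x v * z = L.x v * L.x 256 from congrArg (L.x v * ·) L.x_z.symm, L.x_mul v hv _ (by norm_num),
    qm256 hv]

theorem el_conj_x {r : ℕ × List (Fin 7)} (hr : r.1 < 512) {q : ℕ} (hq : q < 512) :
    L.el r * L.x q * (L.el r)⁻¹ = L.x (innP r q) := by
  have hb := act_lt r.2 q hq
  have h1 := (invQ_spec r.1 hr).1
  rw [innP, ← L.x_mul _ (qm_lt _ hr _ hb) _ h1, ← L.x_mul _ hr _ hb, ← L.x_inv hr, ← L.word_conj r.2 q hq, el]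
  group

theorem innP_lt {r : ℕ × List (Fin 7)} (hr : r.1 < 512) {q : ℕ} (hq : q < 512) : innP r q < 512 :=
  qm_lt _ (qm_lt _ hr _ (act_lt _ _ hq)) _ (invQ_spec r.1 hr).1

theorem commute_x_iff {r : ℕ × List (Fin 7)} (hr : r.1 < 512) {q : ℕ} (hq : q < 512) :
    fixV r q = true ↔ Commute (L.x q) (L.el r) := by
  rw [fixV, beq_iff_eq]
  constructor
  · intro h
    have := L.el_conj_x hr hq
    rw [h, mul_inv_eq_iff_eq_mul] at this
    exact this.symm
  · intro h
    have := L.el_conj_x hr hq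
    rw [show L.el r * L.x q * (L.el r)⁻¹ = L.x q from mul_inv_eq_iff_eq_mul.2 h.eq.symm] at this
    exact (L.x_inj _ hq _ (innP_lt hr hq) this).symm

variable (S : Setup z) (hT : L.Twist) [Finite G] (hwc : S.WC)

include S hT hwc

theorem not_repA {g : G} (h : g * z * g⁻¹ = L.el repA) : False := by
  have hr : repA.1 < 512 := by decide
  have hcz : Commute (g * z * g⁻¹) z := h ▸ L.el_comm hr
  have hne : g * z * g⁻¹ ≠ z := by
    intro e
    have h1 := L.act_el S hr
    rw [← h, e, (S.act_eq_one rfl).2 S.z_mem] at h1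
    exact (check_tw 2 (by norm_num)).2.2
      (((Cd.word L (tW 2)).key_one S).2 ((S.act_eq_one (L.word_comm _)).1 h1.symm))
  -- the other conjugate
  have hc' : Commute (g⁻¹ * z * g⁻¹⁻¹) z := by rw [inv_inv]; exact commute_down g hcz.symm
  have hne' : g⁻¹ * z * g⁻¹⁻¹ ≠ z := by
    rw [inv_inv]
    intro e
    refine hne ?_
    conv_lhs => rw [← e]
    group
  set a := g * z * g⁻¹ with ha
  obtain ⟨S2, hS2mem⟩ : ∃ S2 : Setup a, ∀ x, x ∈ S2.Q ↔ g⁻¹ * x * g ∈ S.Q :=
    ⟨S.conj g, fun _ => mem_conj_Q⟩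
  have hz2 : z ∉ S2.Q := fun hm => by
    refine hne' (hwc _ ?_)
    rw [inv_inv]
    exact (hS2mem z).1 hm
  obtain ⟨r, hrep, e, he, her⟩ := L.exists_rep_conj S hT hwc hc' hne'
  obtain ⟨lst, hlst, hnd, hlen⟩ : ∃ lst : List ℕ, (∀ q ∈ lst, q < 512 ∧ fixV r q = true) ∧
      lst.Nodup ∧ 16 ≤ lst.length := by
    rcases hrep with rfl | rfl | rfl
    · obtain ⟨c1, c2, c3, c4⟩ := check_cenA
      refine ⟨Data.cenA, fun q hq => ?_, allDiff_nodup c2, by omega⟩
      have hq' : q < 512 := of_decide_eq_true (List.all_eq_true.1 c4 q hq)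
      have := List.all_eq_true.1 c1 q (List.mem_range.2 hq')
      rw [List.contains_iff_mem.2 hq, beq_iff_eq] at this
      exact ⟨hq', this⟩
    · obtain ⟨c1, c2, c3⟩ := check_cenB
      refine ⟨Data.cenB, fun q hq => ?_, allDiff_nodup c2, by omega⟩
      have := List.all_eq_true.1 c1 q hq
      simp only [Bool.and_eq_true, decide_eq_true_eq] at this
      exact this
    · exfalso
      refine L.not_repC S hT hwc (g := e * g⁻¹) ?_
      rw [← her]; group
  -- the meet of the cores is trivial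
  set R := S.Q ⊓ Subgroup.centralizer ({a} : Set G) with hR
  have hRmem : ∀ {q : ℕ}, q < 512 → (L.x q ∈ R ↔ fixV repA q = true) := fun hq => by
    rw [L.commute_x_iff hr hq, ← h]
    exact ⟨fun hm => mem_cent_iff.1 hm.2, fun hm => ⟨L.x_memQ S hq, mem_cent_iff.2 hm⟩⟩
  have hcenA : ∀ q, q < 512 → (fixV repA q = true ↔ q ∈ Data.cenA) := fun q hq => by
    have := List.all_eq_true.1 check_cenA.1 q (List.mem_range.2 hq)
    rw [show repA = (1, tW 2) from rfl, beq_iff_eq.1 this, List.contains_iff_mem]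
  have hE : ∀ x ∈ S.Q, x ∈ S2.Q → x = 1 := by
    intro x hx hx2
    obtain ⟨q, hq, rfl⟩ := (L.mem_Q_iff S).1 hx
    by_contra hne1
    have hxa : Commute (L.x q) a := S2.le_cent _ hx2
    have hq0 : q ≠ 0 := fun e => hne1 (by rw [e, L.x_zero])
    have hq256 : q ≠ 256 := fun e => hz2 (by rw [e, L.x_z] at hx2; exact hx2)
    have hsq : qm q q = 0 := by
      refine (L.x_inj _ (qm_lt _ hq _ hq) 0 (by norm_num) ?_)
      rw [← L.x_mul _ hq _ hq, L.x_zero]
      refine (S.sq _ hx).resolve_right fun e => ?_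
      rcases S2.sq _ hx2 with e' | e'
      · exact S.z_ne (e.symm.trans e')
      · exact hne (e'.symm.trans e)
    have hfx : fixV repA q = true := (L.commute_x_iff hr hq).2 (h ▸ hxa)
    have hcent : ∀ p ∈ Data.cenA, qm q p = qm p q := by
      intro p hp
      have hp' : p < 512 := of_decide_eq_true (List.all_eq_true.1 check_cenA.2.2.2 p hp)
      obtain ⟨-, hpa⟩ := (show L.x p ∈ R from (hRmem hp').2 ((hcenA p hp').2 hp))
      refine L.x_inj _ (qm_lt _ hq _ hp') _ (qm_lt _ hp' _ hq) ?_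
      rw [← L.x_mul _ hq _ hp', ← L.x_mul _ hp' _ hq]
      refine (S.comm _ hx _ (L.x_memQ S hp')).resolve_right fun e => hz2 ?_
      have h1 : L.x q * (L.x p * (L.x q)⁻¹ * (L.x p)⁻¹) ∈ S2.Q :=
        mul_mem hx2 (S2.conj_mem _ (mem_cent_iff.1 hpa) _ (inv_mem hx2))
      rwa [← mul_assoc, ← mul_assoc, e, mul_assoc (L.x p) (L.x q) z, S.z_comm hx, ← mul_assoc,
        mul_inv_cancel_right, S.z_comm (L.x_memQ S hp'), mul_inv_cancel_right] at h1
    have hfl := List.all_eq_true.1 check_flips q (List.mem_range.2 hq)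
    rw [okFlip] at hfl
    simp only [Bool.or_eq_true, beq_iff_eq, bne_iff_ne, hq0, hq256, hsq, ne_eq, not_true, false_or, false_and,
      Bool.not_eq_true', show fixV (1, tW 2) q = true from hfx, Bool.true_eq_false,
      show (Data.cenA.all fun r => qm q r == qm r q) = true from
        List.all_eq_true.2 fun p hp => beq_iff_eq.2 (hcent p hp),
      List.any_eq_true, Bool.and_eq_true, decide_eq_true_eq] at hfl
    obtain ⟨⟨q', d⟩, -, ⟨⟨rfl, hd⟩, hin⟩, hcom⟩ := hfl
    have hdz : Commute (L.el d) z := L.el_comm hd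
    have hda : Commute (L.el d) a := h.symm ▸ L.el_commute hT hd hr hcom S
    have hm := S2.conj_mem _ hda _ hx2
    rw [L.el_conj_x hd hq, hin, ← L.x_xor hq] at hm
    have := mul_mem (inv_mem hx2) hm
    rw [inv_mul_cancel_left] at this
    exact hz2 this
  -- the centraliser of `z` in the other core
  set R2 := S2.Q ⊓ Subgroup.centralizer ({z} : Set G) with hR2
  have hR2z : ∀ d ∈ R2, Commute d z := fun d hd => mem_cent_iff.1 hd.2
  have hR2card : 16 ≤ Nat.card R2 := by
    have hmem : ∀ i : Fin lst.length, g * (e⁻¹ * L.x lst[i] * e) * g⁻¹ ∈ R2 := fun i => by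
      obtain ⟨hq, hfq⟩ := hlst _ (List.getElem_mem i.2)
      refine ⟨(hS2mem _).2 ?_, mem_cent_iff.2 ?_⟩
      · rw [show g⁻¹ * (g * (e⁻¹ * L.x lst[i] * e) * g⁻¹) * g = e⁻¹ * L.x lst[i] * e⁻¹⁻¹ by group]
        exact S.conj_mem _ he.inv_left _ (L.x_memQ S hq)
      · have h1 : Commute (L.x lst[i]) (e * (g⁻¹ * z * g⁻¹⁻¹) * e⁻¹) := by
          rw [her]; exact (L.commute_x_iff (by rcases hrep with rfl | rfl | rfl <;> decide) hq).1 hfq
        have h2 := commute_up g (commute_down e h1)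
        rwa [show g * (g⁻¹ * z * g⁻¹⁻¹) * g⁻¹ = z by group] at h2
    have hinj : Function.Injective fun i => (⟨_, hmem i⟩ : R2) := fun i j hij => by
      have h1 : g * (e⁻¹ * L.x lst[i] * e) * g⁻¹ = g * (e⁻¹ * L.x lst[j] * e) * g⁻¹ := congrArg Subtype.val hij
      have h2 := L.x_inj _ (hlst _ (List.getElem_mem i.2)).1 _ (hlst _ (List.getElem_mem j.2)).1
        (mul_left_cancel (mul_right_cancel (mul_left_cancel (mul_right_cancel h1))))
      exact Fin.ext ((List.Nodup.getElem_inj_iff hnd).1 h2)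
    have := Nat.card_le_card_of_injective _ hinj
    rw [Nat.card_fin] at this
    omega
  have hRcard : Nat.card R = 64 := by
    obtain ⟨-, c2, c3, c4⟩ := check_cenA
    have hlt : ∀ i : Fin Data.cenA.length, Data.cenA[i] < 512 := fun i =>
      of_decide_eq_true (List.all_eq_true.1 c4 _ (List.getElem_mem i.2))
    let f : Fin Data.cenA.length → R := fun i =>
      ⟨L.x Data.cenA[i], (hRmem (hlt i)).2 ((hcenA _ (hlt i)).2 (List.getElem_mem i.2))⟩
    have hf : Function.Bijective f := by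
      constructor
      · intro i j hij
        have h2 := L.x_inj _ (hlt i) _ (hlt j) (congrArg Subtype.val hij)
        exact Fin.ext ((List.Nodup.getElem_inj_iff (allDiff_nodup c2)).1 h2)
      · rintro ⟨x, hx⟩
        obtain ⟨q, hq, rfl⟩ := (L.mem_Q_iff S).1 hx.1
        obtain ⟨i, hi, e⟩ := List.getElem_of_mem ((hcenA q hq).1 ((hRmem hq).1 hx))
        refine ⟨⟨i, hi⟩, Subtype.ext ?_⟩
        show L.x _ = L.x q
        exact congrArg L.x e
    rw [← Nat.card_eq_of_bijective f hf, Nat.card_fin, c3]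
  have hzR : z ∈ R := S.z_mem_cent hcz
  have hU : Nat.card (S.img R) = 32 := by
    have := S.card_img (K := R) inf_le_left hzR
    omega
  have hrad : ∀ q ∈ radA, q < 512 ∧ L.pv S q ∈ S.space.perp (S.img R) ∧ L.pv S q ∈ S.img R ∧
      S.space.q (L.pv S q) = 0 := by
    intro q hq
    have hc := List.all_eq_true.1 check_radA.1 q hq
    simp only [Bool.and_eq_true, List.all_eq_true, beq_iff_eq, List.contains_iff_mem] at hc
    obtain ⟨⟨hm, hs⟩, hcc⟩ := hc
    have hq' : q < 512 := of_decide_eq_true (List.all_eq_true.1 check_cenA.2.2.2 q hm)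
    refine ⟨hq', fun w hw => ?_, ⟨_, (hRmem hq').2 ((hcenA q hq').2 hm), L.x_memQ S hq', rfl⟩,
      (S.qv_eq_zero (L.x_memQ S hq')).2 (by rw [L.x_mul _ hq' _ hq', hs, L.x_zero])⟩
    obtain ⟨k, hk, hkQ, rfl⟩ := hw
    obtain ⟨p, hp, rfl⟩ := (L.mem_Q_iff S).1 hkQ
    refine (S.bv_eq_zero (L.x_memQ S hq') (L.x_memQ S hp)).2 ?_
    show L.x q * L.x p = L.x p * L.x q
    rw [L.x_mul _ hq' _ hp, L.x_mul _ hp _ hq', hcc p ((hcenA p hp).1 ((hRmem hp).1 hk))]
  have hperp : ∀ w ∈ S.space.perp (S.img R), w ∈ S.img R ∧ S.space.q w = 0 := by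
    haveI := S.space.fin
    have h8 : Nat.card (S.space.perp (S.img R)) = 8 := by
      have := S.space.card_perp (S.img R)
      rw [hU] at this
      omega
    let f : Fin radA.length → S.space.perp (S.img R) := fun i => ⟨_, (hrad _ (List.getElem_mem i.2)).2.1⟩
    have hf : Function.Bijective f := by
      refine (Nat.bijective_iff_injective_and_card f).2 ⟨fun i j hij => ?_, by rw [Nat.card_fin, h8]; rfl⟩
      have h2 := (L.pv_inj S (hrad _ (List.getElem_mem i.2)).1 (hrad _ (List.getElem_mem j.2)).1).1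
        (congrArg Subtype.val hij)
      have hnd' := List.nodup_iff_injective_getElem.1 (allDiff_nodup check_radA.2)
        (a₁ := ⟨i.val, by simp⟩) (a₂ := ⟨j.val, by simp⟩) (by simpa using h2)
      exact Fin.ext (Fin.mk.inj_iff.1 hnd')
    intro w hw
    obtain ⟨i, hi⟩ := hf.2 ⟨w, hw⟩
    obtain ⟨-, -, h1, h2⟩ := hrad _ (List.getElem_mem i.2)
    rw [show w = L.pv S radA[i] from (congrArg Subtype.val hi).symm]
    exact ⟨h1, h2⟩
  have hP := S.space.card_fixer_le_eight (S.img R) (fun w hw => (hperp w hw).1) (fun w hw => (hperp w hw).2)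
    (L.pv S 16) (L.pv S 32) (L.pv S 128) (fun w => by
      obtain ⟨v, hv, rfl⟩ := L.pv_surj S w
      have hsp := List.all_eq_true.1 check_span v (List.mem_range.2 hv)
      simp only [okSpan, List.any_eq_true, beq_iff_eq] at hsp
      obtain ⟨u, hu, s, hs, e⟩ := hsp
      have hu' : u < 512 := of_decide_eq_true (List.all_eq_true.1 check_cenA.2.2.2 u hu)
      have hs' : s < 512 := by
        simp only [List.mem_cons, List.not_mem_nil, or_false] at hs; omega
      refine ⟨L.pv S u, ⟨_, (hRmem hu').2 ((hcenA u hu').2 hu), L.x_memQ S hu', rfl⟩, ?_⟩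
      have hv2 : L.pv S v = L.pv S u + L.pv S s := by
        rw [(L.pv_inj S (v := v) (w := qm u s) (by omega) (qm_lt _ hu' _ hs')).2 (by omega)]
        show S.vc _ = S.vc _ + S.vc _
        rw [← S.vc_mul (L.x_memQ S hu') (L.x_memQ S hs'), L.x_mul _ hu' _ hs']
      have hadd : ∀ p q : ℕ, p < 512 → q < 512 → L.pv S p + L.pv S q = L.pv S (qm p q) := fun p q hp hq => by
        show S.vc _ + S.vc _ = S.vc _
        rw [← S.vc_mul (L.x_memQ S hp) (L.x_memQ S hq), L.x_mul _ hp _ hq]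
      have h0 : L.pv S 0 = 0 := by rw [pv, L.x_zero, S.vc_one]
      rw [hv2]
      simp only [List.mem_cons, List.not_mem_nil, or_false] at hs
      rcases hs with rfl | rfl | rfl | rfl | rfl | rfl | rfl | rfl
      · exact ⟨0, 0, 0, by simp [Space.sm_zero', h0]⟩
      · exact ⟨1, 0, 0, by simp [Space.sm_zero', Space.sm_one]⟩
      · exact ⟨0, 1, 0, by simp [Space.sm_zero', Space.sm_one]⟩
      · exact ⟨1, 1, 0, by simp [Space.sm_zero', Space.sm_one, add_assoc, hadd]; rfl⟩
      · exact ⟨0, 0, 1, by simp [Space.sm_zero', Space.sm_one]⟩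
      · exact ⟨1, 0, 1, by simp [Space.sm_zero', Space.sm_one, add_assoc, hadd]; rfl⟩
      · exact ⟨0, 1, 1, by simp [Space.sm_zero', Space.sm_one, add_assoc, hadd]; rfl⟩
      · exact ⟨1, 1, 1, by simp [Space.sm_zero', Space.sm_one, add_assoc, hadd, qm_lt]; rfl⟩)
    (S.actHom hR2z).range (by rintro _ ⟨d, rfl⟩; exact S.act_isom (hR2z d d.2)) (by
      rintro _ ⟨⟨d, hd⟩, rfl⟩ w ⟨k, hk, hkQ, rfl⟩
      refine S.act_fix (hR2z d hd) hkQ ?_
      have hka : Commute k a := mem_cent_iff.1 hk.2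
      have h1 : d * k * d⁻¹ * k⁻¹ ∈ S2.Q := by
        have := mul_mem hd.1 (S2.conj_mem k hka _ (inv_mem hd.1))
        simpa [mul_assoc] using this
      have h2 := hE _ (S.Q.mul_mem (S.conj_mem d (hR2z d hd) k hkQ) (S.Q.inv_mem hkQ)) h1
      rw [mul_inv_eq_one] at h2
      exact conj_id_iff.1 h2)
  have hcard := S.card_image hR2z
  have hker : Nat.card (R2 ⊓ S.Q : Subgroup G) = 1 :=
    Subgroup.card_eq_one.2 (eq_bot_iff.2 fun x hx => Subgroup.mem_bot.2 (hE x hx.2 hx.1.1))
  rw [hker, mul_one] at hcard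
  omega

end Base

end Cfsg.Agent.CoTwoType
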