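import Cfsg.Agent.Lib.CoTwoType.Twist.Classify
import Cfsg.Agent.Lib.CoTwoType.CaseR.Tools

/-
The centraliser of an involution of the third image class (helper33).

* `orbit_stab_le` : distinct conjugates against the centraliser
* `Base.card_centT` : it has order 4608; `Base.no_root` : two elements of order three commute with no square root
-/

set_option autoImplicit false
set_option linter.style.haveILetI false
set_option maxRecDepth 20000

namespace Cfsg.Agent.CoTwoType

open Cfsg.Agent.Multiplier.Sp6 Twist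
open CoTwoClose (mulF cone)

universe u

theorem Twist.orbit_stab_le {X : Type*} [Group X] [Finite X] (H : Subgroup X) (t : X) {n : ℕ} (f : Fin n → X)
    (hf : Function.Injective f) (hk : ∀ i, ∃ k ∈ H, k * t * k⁻¹ = f i) :
    n * Nat.card (H ⊓ Subgroup.centralizer ({t} : Set X) : Subgroup X) ≤ Nat.card H := by
  choose k hk1 hk2 using hk
  let φ : Fin n × (H ⊓ Subgroup.centralizer ({t} : Set X) : Subgroup X) → H := fun p =>
    ⟨k p.1 * p.2, mul_mem (hk1 p.1) p.2.2.1⟩
  have hφ : Function.Injective φ := by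
    rintro ⟨i, c⟩ ⟨j, d⟩ e
    have e' : k i * c = k j * d := congrArg Subtype.val e
    have hc : (c : X) * t * (c : X)⁻¹ = t := conj_id_iff.2 (mem_cent_iff.1 c.2.2)
    have hd : (d : X) * t * (d : X)⁻¹ = t := conj_id_iff.2 (mem_cent_iff.1 d.2.2)
    have hij : i = j := hf (by
      rw [← hk2 i, ← hk2 j]
      calc k i * t * (k i)⁻¹ = k i * ((c : X) * t * (c : X)⁻¹) * (k i)⁻¹ := by rw [hc]
        _ = (k i * c) * t * (k i * c)⁻¹ := by group
        _ = k j * ((d : X) * t * (d : X)⁻¹) * (k j)⁻¹ := by rw [e']; group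
        _ = _ := by rw [hd])
    subst hij
    exact Prod.ext rfl (Subtype.ext (mul_left_cancel e'))
  have := Nat.card_le_card_of_injective φ hφ
  rwa [Nat.card_prod, Nat.card_fin] at this

variable {G : Type u} [Group G] {z : G}

namespace Base

variable (L : Base z) (S : Setup z) (hT : L.Twist)

/-- The action of a word. -/
noncomputable abbrev aw (l : List (Fin 7)) : Equiv.Perm S.Vz := S.act (l.map L.h).prod

/-- The centraliser in the image of the third class. -/
noncomputable def centT : Subgroup (Equiv.Perm S.Vz) :=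
  S.grp ⊓ Subgroup.centralizer ({L.aw S (tW 2)} : Set (Equiv.Perm S.Vz))

theorem aw_mem {l : List (Fin 7)} : L.aw S l ∈ S.grp := S.act_mem_grp (L.word_comm l)

theorem aw_commute {w t : List (Fin 7)}
    (h : keyC (mulF (wordF w) (wordF t)) = keyC (mulF (wordF t) (wordF w))) :
    Commute (L.aw S w) (L.aw S t) := by
  have := (((Cd.word L w).mulF (Cd.word L t)).key_iff S ((Cd.word L t).mulF (Cd.word L w))).1 h
  rw [S.act_mul (L.word_comm w) (L.word_comm t), S.act_mul (L.word_comm t) (L.word_comm w)] at this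
  exact this

theorem gen_mem {w : List (Fin 7)} (hw : w ∈ Data.centGens) : L.aw S w ∈ L.centT S := by
  have h := List.all_eq_true.1 check_centGens w hw
  exact ⟨L.aw_mem S, mem_cent_iff.2 (L.aw_commute S (beq_iff_eq.1 h))⟩

theorem check_split : (((List.range 7).map fun j => ([Fin.ofNat 7 j] : List (Fin 7))) ++ Data.centGens).all (fun w =>
    (conjGen w >>> 81 == wordF w) && ((conjGen w &&& (2 ^ 81 - 1)) == wordF w.reverse)) = true := by
  decide +kernel

variable [Finite G]

include hT

/-- The members of a conjugation tree are conjugates. -/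
theorem tree_conj {gens : List (List (Fin 7))}
    (hg : ∀ w ∈ gens, conjGen w >>> 81 = wordF w ∧ conjGen w &&& (2 ^ 81 - 1) = wordF w.reverse)
    (H : Subgroup (Equiv.Perm S.Vz)) (hH : ∀ w ∈ gens, L.aw S w ∈ H) (r : List (Fin 7))
    {T : List (ℕ × ℕ × ℕ)} (hT' : okTree conjOp (gens.map conjGen) (wordF r) T = true)
    (hd : allDiff (T.map fun p => keyC p.1) = true) :
    ∃ f : Fin T.length → Equiv.Perm S.Vz, Function.Injective f ∧ ∀ i, ∃ k ∈ H, k * L.aw S r * k⁻¹ = f i := by
  have key := tree_sound hT' (fun e => ∃ c, L.Cd c e ∧ ∃ k ∈ H, k * L.aw S r * k⁻¹ = S.act c)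
    ⟨_, Cd.word L r, 1, one_mem _, by simp [aw]⟩ (by
      rintro e ⟨c, hc, k, hk, hkc⟩ g hgm
      obtain ⟨w, hw, rfl⟩ := List.mem_map.1 hgm
      obtain ⟨h1, h2⟩ := hg w hw
      refine ⟨(w.map L.h).prod * c * (w.reverse.map L.h).prod, ?_, L.aw S w * k, mul_mem (hH w hw) hk, ?_⟩
      · rw [conjOp, h1, h2]
        exact ((Cd.word L w).mulF hc).mulF (Cd.word L _)
      · rw [L.act_conj S hT hc.comm w, ← hkc]
        group)
  choose c hc hk using fun i : Fin T.length => key _ (List.getElem_mem i.2)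
  refine ⟨fun i => S.act (c i), fun i j e => ?_, hk⟩
  have e' := ((hc i).key_iff S (hc j)).2 e
  have := List.nodup_iff_injective_getElem.1 (allDiff_nodup hd) (a₁ := ⟨i.val, by simp⟩) (a₂ := ⟨j.val, by simp⟩)
    (by simpa using e')
  exact Fin.ext (Fin.mk.inj_iff.1 this)

/-- A product tree inside a subgroup. -/
theorem tree_mem {gens : List (List (Fin 7))} (H : Subgroup (Equiv.Perm S.Vz))
    (hH : ∀ w ∈ gens, L.aw S w ∈ H) {T : List (ℕ × ℕ × ℕ)} (hT' : okTree mulF (gens.map wordF) cone T = true)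
    (hd : allDiff (T.map fun p => keyC p.1) = true) :
    ∃ f : Fin T.length → H, Function.Injective f ∧ ∀ i, ∃ c, L.Cd c T[i].1 ∧ S.act c = (f i).1 := by
  have key := tree_sound hT' (fun e => ∃ c, L.Cd c e ∧ S.act c ∈ H)
    ⟨1, Cd.one L, by rw [S.act_one]; exact one_mem _⟩ (by
      rintro e ⟨c, hc, hm⟩ g hgm
      obtain ⟨w, hw, rfl⟩ := List.mem_map.1 hgm
      refine ⟨c * (w.map L.h).prod, hc.mulF (Cd.word L w), ?_⟩
      rw [S.act_mul hc.comm (L.word_comm w)]
      exact mul_mem hm (hH w hw))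
  choose c hc hm using fun i : Fin T.length => key _ (List.getElem_mem i.2)
  refine ⟨fun i => ⟨_, hm i⟩, fun i j e => ?_, fun i => ⟨c i, hc i, rfl⟩⟩
  have e' := ((hc i).key_iff S (hc j)).2 (congrArg Subtype.val e)
  have := List.nodup_iff_injective_getElem.1 (allDiff_nodup hd) (a₁ := ⟨i.val, by simp⟩) (a₂ := ⟨j.val, by simp⟩)
    (by simpa using e')
  exact Fin.ext (Fin.mk.inj_iff.1 this)

theorem card_centT_le : Nat.card (L.centT S) ≤ 4608 := by
  haveI := S.space.fin
  obtain ⟨h1, h2, h3⟩ := check_orbT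
  have hsp := List.all_eq_true.1 check_split
  obtain ⟨f, hf, hk⟩ := L.tree_conj S hT (gens := (List.range 7).map fun j => ([Fin.ofNat 7 j] : List (Fin 7)))
    (fun w hw => by
      have := hsp w (List.mem_append_left _ hw)
      simpa [Bool.and_eq_true] using this)
    S.grp (fun w _ => L.aw_mem S) (tW 2) (T := Data.orbT) (by rw [List.map_map]; exact h1) h2
  have := orbit_stab_le S.grp _ f hf hk
  rw [card_grp S, h3] at this
  change 315 * Nat.card (L.centT S) ≤ 1451520 at this
  omega

/-- Centralisers of two elements of order three in the centraliser. -/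
theorem line_cent (i : ℕ) (hi : i = 0 ∨ i = 1) :
    Nat.card (L.centT S) = 4608 ∧ ∀ k ∈ L.centT S, Commute k (L.aw S (Data.lines.getD i (0, [])).2) →
      k * k ≠ L.aw S (tW 2) := by
  haveI := S.space.fin
  obtain ⟨n, m, orb, gens, sub, hnm, ⟨o1, o2, o3⟩, ⟨s1, s2, s3, s4, s5⟩⟩ :
      ∃ (n m : ℕ) (orb : List (ℕ × ℕ × ℕ)) (gens : List (List (Fin 7))) (sub : List (ℕ × ℕ × ℕ)), n * m = 4608 ∧
        (okTree conjOp (Data.centGens.map conjGen) (wordF (Data.lines.getD i (0, [])).2) orb = true ∧
          allDiff (orb.map fun p => keyC p.1) = true ∧ orb.length = n) ∧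
        (okTree mulF (gens.map wordF) cone sub = true ∧ allDiff (sub.map fun p => keyC p.1) = true ∧
          sub.length = m ∧
          (gens.all fun w =>
            keyC (mulF (wordF w) (wordF (tW 2))) == keyC (mulF (wordF (tW 2)) (wordF w)) &&
            keyC (mulF (wordF w) (wordF (Data.lines.getD i (0, [])).2)) ==
              keyC (mulF (wordF (Data.lines.getD i (0, [])).2) (wordF w))) = true ∧
          (sub.all fun p => keyC (mulF p.1 p.1) != keyC (wordF (tW 2))) = true) := by
    rcases hi with rfl | rfl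
    exacts [⟨32, 144, _, _, _, by norm_num, check_orbX0, check_sub0⟩,
      ⟨128, 36, _, _, _, by norm_num, check_orbX1, check_sub1⟩]
  set x := L.aw S (Data.lines.getD i (0, [])).2
  obtain ⟨f, hf, hk⟩ := L.tree_conj S hT (gens := Data.centGens) (fun w hw => by
      have := List.all_eq_true.1 check_split w (List.mem_append_right _ hw)
      simpa [Bool.and_eq_true] using this)
    (L.centT S) (fun w hw => L.gen_mem S hw) (Data.lines.getD i (0, [])).2 o1 o2
  set Cx := L.centT S ⊓ Subgroup.centralizer ({x} : Set (Equiv.Perm S.Vz))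
  have hle : orb.length * Nat.card Cx ≤ Nat.card (L.centT S) := orbit_stab_le (L.centT S) x f hf hk
  obtain ⟨e, he, hec⟩ := L.tree_mem S hT Cx (gens := gens) (fun w hw => by
      have h := List.all_eq_true.1 s4 w hw
      simp only [Bool.and_eq_true, beq_iff_eq] at h
      exact ⟨⟨L.aw_mem S, mem_cent_iff.2 (L.aw_commute S h.1)⟩, mem_cent_iff.2 (L.aw_commute S h.2)⟩)
    s1 s2
  have hge : m ≤ Nat.card Cx := by
    have := Nat.card_le_card_of_injective e he
    rwa [Nat.card_fin, s3] at this
  rw [o3] at hle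
  have h4 := L.card_centT_le S hT
  have hn : 0 < n := Nat.pos_of_ne_zero fun h => by rw [h, zero_mul] at hnm; omega
  have hmul := Nat.mul_le_mul_left n hge
  have hCx : Nat.card Cx = m := le_antisymm (Nat.le_of_mul_le_mul_left (by omega) hn) hge
  refine ⟨by omega, fun k hk hkx hsq => ?_⟩
  have hb : Function.Bijective e :=
    (Nat.bijective_iff_injective_and_card e).2 ⟨he, by rw [Nat.card_fin, s3, hCx]⟩
  obtain ⟨j, hj⟩ := hb.2 ⟨k, hk, mem_cent_iff.2 hkx⟩
  obtain ⟨c, hc, hck⟩ := hec j
  have h5 := List.all_eq_true.1 s5 sub[j] (List.getElem_mem j.2)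
  rw [bne_iff_ne] at h5
  refine h5 (((hc.mulF hc).key_iff S (Cd.word L (tW 2))).2 ?_)
  rw [S.act_mul hc.comm hc.comm, hck, hj]
  exact hsq

end Base

end Cfsg.Agent.CoTwoType
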