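import Cfsg.Agent.Lib.CoTwoType.Twist.ClassA
import Cfsg.Agent.Lib.CoTwoType.Twist.Counts

/-
The second class of involutions of the twisted centraliser (helper33).

* `Base.not_repB` : the second class does not meet the class of `z`
-/

set_option autoImplicit false
set_option linter.style.haveILetI false
set_option maxRecDepth 20000

namespace Cfsg.Agent.CoTwoType

open Cfsg.Agent.Multiplier.Sp6 Twist CaseR
open scoped Pointwise
open CoTwoClose (mulF cone)

universe u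

variable {G : Type u} [Group G] {z : G}

namespace Base

variable (L : Base z) (S : Setup z) (hT : L.Twist) [Finite G] (hwc : S.WC)

include S hT hwc

/-- A swapping element. -/
theorem exists_swap {g : G} (h : g * z * g⁻¹ = L.el repB) :
    ∃ s, s * z * s⁻¹ = L.el repB ∧ s * L.el repB * s⁻¹ = z := by
  have hr : repB.1 < 512 := by decide
  have hcz : Commute (g * z * g⁻¹) z := h ▸ L.el_comm hr
  have hne : g * z * g⁻¹ ≠ z := by
    intro e
    have h1 := L.act_el S hr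
    rw [← h, e, (S.act_eq_one rfl).2 S.z_mem] at h1
    exact (check_tw 2 (by norm_num)).2.2
      (((Cd.word L (tW 2)).key_one S).2 ((S.act_eq_one (L.word_comm _)).1 h1.symm))
  have hc' : Commute (g⁻¹ * z * g⁻¹⁻¹) z := by rw [inv_inv]; exact commute_down g hcz.symm
  have hne' : g⁻¹ * z * g⁻¹⁻¹ ≠ z := by
    rw [inv_inv]
    intro e
    refine hne ?_
    conv_lhs => rw [← e]
    group
  obtain ⟨r, hrep, e, he, her⟩ := L.exists_rep_conj S hT hwc hc' hne'
  rcases hrep with rfl | rfl | rfl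
  · exact (L.not_repA S hT hwc (g := e * g⁻¹) (by rw [← her]; group)).elim
  · refine ⟨g * e⁻¹, ?_, ?_⟩
    · calc g * e⁻¹ * z * (g * e⁻¹)⁻¹ = g * (e⁻¹ * z * e) * g⁻¹ := by group
        _ = _ := by rw [mul_assoc e⁻¹, ← he.eq, inv_mul_cancel_left, h]
    · rw [← her]; group
  · exact (L.not_repC S hT hwc (g := e * g⁻¹) (by rw [← her]; group)).elim

omit hwc in
/-- The generators of the subgroups of order three. -/
theorem line_facts :
    (∀ i < 4, Commute (L.el (Data.lines.getD i (0, []))) z ∧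
      Commute (L.el (Data.lines.getD i (0, []))) (L.el repB) ∧
      L.el (Data.lines.getD i (0, [])) ^ 3 = 1 ∧ L.el (Data.lines.getD i (0, [])) ≠ 1 ∧
      ∀ k < 4, i ≠ k → L.el (Data.lines.getD i (0, [])) ≠ L.el (Data.lines.getD k (0, [])) ∧
        L.el (Data.lines.getD i (0, [])) ≠ L.el (Data.lines.getD k (0, [])) ^ 2) ∧
    Commute (L.el (Data.lines.getD 0 (0, []))) (L.el (Data.lines.getD 1 (0, []))) ∧
    L.el (Data.lines.getD 2 (0, [])) = L.el (Data.lines.getD 0 (0, [])) * L.el (Data.lines.getD 1 (0, [])) ∧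
    L.el (Data.lines.getD 3 (0, [])) = L.el (Data.lines.getD 0 (0, [])) * L.el (Data.lines.getD 1 (0, [])) ^ 2 := by
  obtain ⟨hl, h01, e2, e3⟩ := check_lines
  have hp : ∀ i < 4, (Data.lines.getD i (0, [])).1 < 512 := fun i hi => by
    have := List.all_eq_true.1 hl i (List.mem_range.2 hi)
    simp only [Bool.and_eq_true, decide_eq_true_eq] at this
    exact this.1.1.1.1
  have p0 := hp 0 (by norm_num)
  have p1 := hp 1 (by norm_num)
  refine ⟨fun i hi => ?_, L.el_commute hT p0 p1 h01 S, by rw [e2, L.el_mul p0 p1],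
    by rw [e3, pow_two, L.el_mul p1 p1, L.el_mul p0 (qm_lt _ p1 _ (act_lt _ _ p1))]⟩
  have hh := List.all_eq_true.1 hl i (List.mem_range.2 hi)
  simp only [Bool.and_eq_true, decide_eq_true_eq] at hh
  obtain ⟨⟨⟨⟨h1, h3⟩, hk⟩, hc⟩, hdiff⟩ := hh
  rw [bne_iff_ne] at hk
  refine ⟨L.el_comm h1, L.el_commute hT h1 (by decide) hc S, ?_, fun e => ?_, fun k hk4 hik => ?_⟩
  · rw [pow_succ, pow_two, L.el_mul h1 h1, L.el_mul (qm_lt _ h1 _ (act_lt _ _ h1)) h1]
    exact L.el_one1 hT S h3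
  · refine hk ((Cd.word L _).key_iff S (Cd.one L) |>.2 ?_)
    rw [← L.act_el S h1, e]
  · have hd := List.all_eq_true.1 hdiff k (List.mem_range.2 hk4)
    simp only [Bool.or_eq_true, Bool.and_eq_true, beq_iff_eq, bne_iff_ne, hik, false_or] at hd
    refine ⟨fun e => hd.1 ((Cd.word L _).key_iff S (Cd.word L _) |>.2 ?_),
      fun e => hd.2 ((Cd.word L _).key_iff S (Cd.word L _) |>.2 ?_)⟩
    · rw [← L.act_el S h1, ← L.act_el S (hp k hk4), e]
    · rw [← L.act_el S h1, e, pow_two, S.act_mul (L.el_comm (hp k hk4)) (L.el_comm (hp k hk4)),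
        L.act_el S (hp k hk4), List.map_append, List.prod_append, S.act_mul (L.word_comm _) (L.word_comm _)]

/-- The second class is not conjugate to `z`. -/
theorem not_repB {g : G} (h : g * z * g⁻¹ = L.el repB) : False := by
  haveI : Fact (Nat.Prime 3) := ⟨by norm_num⟩
  have hr : repB.1 < 512 := by decide
  obtain ⟨s0, hsz, hsa⟩ := L.exists_swap S hT hwc h
  set a := L.el repB with ha
  have haz : Commute a z := L.el_comm hr
  have hact : S.act a = L.aw S (tW 2) := L.act_el S hr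
  obtain ⟨hlines, h01, h2e, h3e⟩ := L.line_facts S hT
  set ℓ : Fin 4 → G := fun i => L.el (Data.lines.getD i.val (0, [])) with hℓ
  have hz_ : ∀ i, Commute (ℓ i) z := fun i => (hlines i i.isLt).1
  have ha_ : ∀ i, Commute (ℓ i) a := fun i => (hlines i i.isLt).2.1
  have h3_ : ∀ i, ℓ i ^ 3 = 1 := fun i => (hlines i i.isLt).2.2.1
  have h1_ : ∀ i, ℓ i ≠ 1 := fun i => (hlines i i.isLt).2.2.2.1
  have hd_ : ∀ i k, i ≠ k → ℓ i ≠ ℓ k ∧ ℓ i ≠ ℓ k ^ 2 := fun i k hik =>
    (hlines i i.isLt).2.2.2.2 k k.isLt (fun e => hik (Fin.ext e))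
  have hcomm : Commute (ℓ 0) (ℓ 1) := h01
  have h2' : ℓ 2 = ℓ 0 * ℓ 1 := h2e
  have h3' : ℓ 3 = ℓ 0 * ℓ 1 ^ 2 := h3e
  -- the subgroup of order nine
  have hmod : ∀ (i : Fin 4) (n : ℕ), ℓ i ^ n = ℓ i ^ (n % 3) := fun i n => pow_eq_pow_mod n (h3_ i)
  let P : Subgroup G :=
    { carrier := {x | ∃ i < 3, ∃ j < 3, x = ℓ 0 ^ i * ℓ 1 ^ j}
      one_mem' := ⟨0, by norm_num, 0, by norm_num, by simp⟩
      mul_mem' := by
        rintro _ _ ⟨i, -, j, -, rfl⟩ ⟨k, -, l, -, rfl⟩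
        refine ⟨(i + k) % 3, Nat.mod_lt _ (by norm_num), (j + l) % 3, Nat.mod_lt _ (by norm_num), ?_⟩
        rw [← hmod, ← hmod, pow_add, pow_add, mul_assoc, ← mul_assoc (ℓ 1 ^ j), (hcomm.pow_pow k j).symm.eq]
        group
      inv_mem' := by
        rintro _ ⟨i, hi, j, hj, rfl⟩
        refine ⟨(3 - i) % 3, Nat.mod_lt _ (by norm_num), (3 - j) % 3, Nat.mod_lt _ (by norm_num), ?_⟩
        rw [← hmod, ← hmod]
        refine inv_eq_of_mul_eq_one_right ?_
        calc ℓ 0 ^ i * ℓ 1 ^ j * (ℓ 0 ^ (3 - i) * ℓ 1 ^ (3 - j))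
            = ℓ 0 ^ i * (ℓ 1 ^ j * ℓ 0 ^ (3 - i)) * ℓ 1 ^ (3 - j) := by group
          _ = (ℓ 0 ^ i * ℓ 0 ^ (3 - i)) * (ℓ 1 ^ j * ℓ 1 ^ (3 - j)) := by
            rw [(hcomm.pow_pow (3 - i) j).symm.eq]; group
          _ = 1 := by
            rw [← pow_add, ← pow_add, Nat.add_sub_cancel' hi.le, Nat.add_sub_cancel' hj.le, h3_, h3_, one_mul] }
  have hsqinv : ∀ i, ℓ i ^ 2 = (ℓ i)⁻¹ := fun i => eq_inv_of_mul_eq_one_left (by rw [← pow_succ, h3_])
  have hinP : ∀ i, ℓ i ∈ P := by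
    intro i
    fin_cases i
    · exact ⟨1, by norm_num, 0, by norm_num, by simp⟩
    · exact ⟨0, by norm_num, 1, by norm_num, by simp⟩
    · exact ⟨1, by norm_num, 1, by norm_num, by simpa using h2'⟩
    · exact ⟨1, by norm_num, 2, by norm_num, by simpa using h3'⟩
  have hline : ∀ x ∈ P, x ≠ 1 → ∃ i, x = ℓ i ∨ x = ℓ i ^ 2 := by
    rintro _ ⟨i, hi, j, hj, rfl⟩ hx
    have q0 : ℓ 2 ^ 2 = ℓ 0 ^ 2 * ℓ 1 ^ 2 := by rw [h2', hcomm.mul_pow]
    have q1 : ℓ 3 ^ 2 = ℓ 0 ^ 2 * ℓ 1 := by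
      rw [h3', (hcomm.pow_right 2).mul_pow, ← pow_mul, hmod 1 (2 * 2), pow_one]
    interval_cases i <;> interval_cases j <;>
      simp only [pow_zero, pow_one, mul_one, one_mul, ne_eq, not_true] at hx ⊢
    · exact ⟨1, Or.inl rfl⟩
    · exact ⟨1, Or.inr rfl⟩
    · exact ⟨0, Or.inl rfl⟩
    · exact ⟨2, Or.inl h2'.symm⟩
    · exact ⟨3, Or.inl h3'.symm⟩
    · exact ⟨0, Or.inr rfl⟩
    · exact ⟨3, Or.inr q1.symm⟩
    · exact ⟨2, Or.inr q0.symm⟩
  -- centraliser of the pair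
  let D : Subgroup G := Subgroup.centralizer ({z} : Set G) ⊓ Subgroup.centralizer ({a} : Set G)
  have hDmem : ∀ {x : G}, x ∈ D ↔ Commute x z ∧ Commute x a := fun {x} => and_congr mem_cent_iff mem_cent_iff
  have hPD : P ≤ D := by
    rintro _ ⟨i, -, j, -, rfl⟩
    exact hDmem.2 ⟨((hz_ 0).pow_left i).mul_left ((hz_ 1).pow_left j),
      ((ha_ 0).pow_left i).mul_left ((ha_ 1).pow_left j)⟩
  have hPcard : Nat.card P = 9 := by
    let f : Fin 3 × Fin 3 → P := fun p => ⟨ℓ 0 ^ p.1.val * ℓ 1 ^ p.2.val, p.1, p.1.isLt, p.2, p.2.isLt, rfl⟩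
    have hcancel : ∀ {i j : ℕ}, i < 3 → j < 3 → ℓ 0 ^ i * ℓ 1 ^ j = 1 → i = 0 ∧ j = 0 := by
      intro i j hi hj he
      interval_cases i <;> interval_cases j <;> (try simp only [pow_zero, pow_one, mul_one, one_mul] at he)
      · exact ⟨rfl, rfl⟩
      · exact (h1_ 1 he).elim
      · exact (h1_ 1 (by rwa [hsqinv, inv_eq_one] at he)).elim
      · exact (h1_ 0 he).elim
      · exact (h1_ 2 (h2'.trans he)).elim
      · exact (h1_ 3 (h3'.trans he)).elim
      · exact (h1_ 0 (by rwa [hsqinv, inv_eq_one] at he)).elim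
      · refine (h1_ 3 (h3'.trans ?_)).elim
        rw [hsqinv 0] at he
        rw [hsqinv 1, ← inv_eq_of_mul_eq_one_right he, inv_inv, mul_inv_cancel]
      · refine (h1_ 2 (h2'.trans ?_)).elim
        rw [← inv_inv (ℓ 0 * ℓ 1), mul_inv_rev, ← hsqinv, ← hsqinv, (hcomm.pow_pow 2 2).symm.eq, he, inv_one]
    have hf : Function.Bijective f := by
      constructor
      · rintro ⟨i, j⟩ ⟨k, l⟩ e
        have e' : ℓ 0 ^ i.val * ℓ 1 ^ j.val = ℓ 0 ^ k.val * ℓ 1 ^ l.val := congrArg Subtype.val e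
        obtain ⟨e1, e2⟩ := hcancel (i := (i.val + (3 - k.val)) % 3) (j := (j.val + (3 - l.val)) % 3)
          (Nat.mod_lt _ (by norm_num)) (Nat.mod_lt _ (by norm_num)) (by
            rw [← hmod, ← hmod, pow_add, pow_add]
            calc ℓ 0 ^ i.val * ℓ 0 ^ (3 - k.val) * (ℓ 1 ^ j.val * ℓ 1 ^ (3 - l.val))
                = ℓ 0 ^ i.val * (ℓ 0 ^ (3 - k.val) * ℓ 1 ^ j.val) * ℓ 1 ^ (3 - l.val) := by group
              _ = ℓ 0 ^ i.val * ℓ 1 ^ j.val * ℓ 0 ^ (3 - k.val) * ℓ 1 ^ (3 - l.val) := by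
                rw [(hcomm.pow_pow (3 - k.val) j.val).eq]; group
              _ = ℓ 0 ^ k.val * (ℓ 1 ^ l.val * ℓ 0 ^ (3 - k.val)) * ℓ 1 ^ (3 - l.val) := by rw [e']; group
              _ = ℓ 0 ^ k.val * ℓ 0 ^ (3 - k.val) * (ℓ 1 ^ l.val * ℓ 1 ^ (3 - l.val)) := by
                rw [(hcomm.pow_pow (3 - k.val) l.val).symm.eq]; group
              _ = 1 := by
                rw [← pow_add, ← pow_add, Nat.add_sub_cancel' k.isLt.le, Nat.add_sub_cancel' l.isLt.le, h3_,
                  h3_, one_mul])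
        have := i.isLt; have := j.isLt; have := k.isLt; have := l.isLt
        exact Prod.ext (Fin.ext (show i.val = k.val by omega)) (Fin.ext (show j.val = l.val by omega))
      · rintro ⟨_, i, hi, j, hj, rfl⟩
        exact ⟨(⟨i, hi⟩, ⟨j, hj⟩), rfl⟩
    rw [← Nat.card_eq_of_bijective f hf]
    simp
  -- order of the centraliser of the pair
  have hDz : ∀ x ∈ D, Commute x z := fun x hx => (hDmem.1 hx).1
  obtain ⟨hC, -⟩ := L.line_cent S hT 0 (Or.inl rfl)
  have hrange : (S.actHom hDz).range ≤ L.centT S := by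
    rintro _ ⟨⟨x, hx⟩, rfl⟩
    refine ⟨S.act_mem_grp (hDz x hx), mem_cent_iff.2 ?_⟩
    show S.act x * _ = _ * S.act x
    rw [← hact, ← S.act_mul (hDz x hx) haz, ← S.act_mul haz (hDz x hx), (hDmem.1 hx).2.eq]
  have hDcard : Nat.card D ∣ 4608 * 512 := by
    rw [← S.card_image hDz, ← hC, ← S.card_Q]
    exact Nat.mul_dvd_mul (Subgroup.card_dvd_of_le hrange) (Subgroup.card_dvd_of_le inf_le_right)
  have hP9 : Nat.card (P.subgroupOf D) = 3 ^ 2 := by
    rw [Nat.card_congr (Subgroup.subgroupOfEquivOfLe hPD).toEquiv, hPcard]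
    norm_num
  obtain ⟨T, hT9⟩ := (IsPGroup.of_card hP9).exists_le_sylow
  have hTP : (T : Subgroup D) = P.subgroupOf D := by
    refine (Subgroup.eq_of_le_of_card_ge hT9 ?_).symm
    obtain ⟨m, hm⟩ := IsPGroup.iff_card.1 T.isPGroup'
    have hd := (Subgroup.card_subgroup_dvd_card (T : Subgroup D)).trans hDcard
    rw [hm] at hd
    have hm2 : m ≤ 2 := by
      by_contra hc
      have := (pow_dvd_pow 3 (show 3 ≤ m by omega)).trans hd
      norm_num at this
    rw [hm, hP9]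
    exact Nat.pow_le_pow_right (by norm_num) hm2
  -- adjust the swap to normalise the subgroup
  have hswap : ∀ {x}, x ∈ D → s0 * x * s0⁻¹ ∈ D := fun {x} hx => by
    obtain ⟨h1, h2⟩ := hDmem.1 hx
    have k1 := commute_up s0 h2
    have k2 := commute_up s0 h1
    rw [hsa] at k1
    rw [hsz] at k2
    exact hDmem.2 ⟨k1, k2⟩
  let φ : P →* D :=
    { toFun := fun x => ⟨s0 * x * s0⁻¹, hswap (hPD x.2)⟩
      map_one' := Subtype.ext (by simp)
      map_mul' := fun x y => Subtype.ext (by simp [mul_assoc]) }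
  have hP3 : IsPGroup 3 P := IsPGroup.of_card (n := 2) (hPcard.trans (by norm_num))
  obtain ⟨T', hT'⟩ := (hP3.of_surjective φ.rangeRestrict φ.rangeRestrict_surjective).exists_le_sylow
  obtain ⟨⟨d, hd⟩, hdT⟩ := MulAction.exists_smul_eq D T' T
  obtain ⟨hdz, hda⟩ := hDmem.1 hd
  set σ := d * s0 with hσ
  have hσz : σ * z * σ⁻¹ = a := by
    calc σ * z * σ⁻¹ = d * (s0 * z * s0⁻¹) * d⁻¹ := by rw [hσ]; group
      _ = a := by rw [hsz, conj_id_iff.2 hda]
  have hσa : σ * a * σ⁻¹ = z := by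
    calc σ * a * σ⁻¹ = d * (s0 * a * s0⁻¹) * d⁻¹ := by rw [hσ]; group
      _ = z := by rw [hsa, conj_id_iff.2 hdz]
  have hσP : ∀ x ∈ P, σ * x * σ⁻¹ ∈ P := by
    intro x hx
    have h1 : (⟨d, hd⟩ : D) * φ ⟨x, hx⟩ * (⟨d, hd⟩ : D)⁻¹ ∈ (T : Subgroup D) := by
      rw [show (T : Subgroup D) = MulAut.conj (⟨d, hd⟩ : D) • (T' : Subgroup D) from
        (congrArg (fun P : Sylow 3 D => (P : Subgroup D)) hdT).symm]
      exact Subgroup.smul_mem_pointwise_smul _ (MulAut.conj (⟨d, hd⟩ : D)) _ (hT' ⟨_, rfl⟩)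
    rw [hTP] at h1
    have h2 : d * (s0 * x * s0⁻¹) * d⁻¹ ∈ P := h1
    rw [hσ, mul_inv_rev]
    simpa [mul_assoc] using h2
  have hex : ∀ i, ∃ j, σ * ℓ i * σ⁻¹ = ℓ j ∨ σ * ℓ i * σ⁻¹ = ℓ j ^ 2 := fun i =>
    hline _ (hσP _ (hinP i)) fun e => h1_ i (conj_eq_one_iff.1 e)
  choose f hf using hex
  have hfinj : Function.Injective f := by
    intro i k e
    by_contra hne
    have hi := hf i
    have hk := hf k
    rw [e] at hi
    obtain ⟨d1, d2⟩ := hd_ i k hne
    have hsq : σ * ℓ k ^ 2 * σ⁻¹ = (σ * ℓ k * σ⁻¹) ^ 2 := by rw [conj_pow]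
    have h4 : ∀ j, (ℓ j ^ 2) ^ 2 = ℓ j := fun j => by rw [← pow_mul, hmod, pow_one]
    rcases hi with p | p <;> rcases hk with q | q
    · exact d1 (mul_left_cancel (mul_right_cancel (p.trans q.symm)))
    · refine d2 (mul_left_cancel (a := σ) (mul_right_cancel (b := σ⁻¹) ?_))
      rw [p, hsq, q, h4]
    · refine d2 (mul_left_cancel (a := σ) (mul_right_cancel (b := σ⁻¹) ?_))
      rw [p, hsq, q]
    · exact d1 (mul_left_cancel (mul_right_cancel (p.trans q.symm)))
  have hroot : ∀ i : Fin 4, i ≠ 1 → f i ≠ 0 ∧ f i ≠ 1 := by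
    intro i hi
    have hh := List.all_eq_true.1 check_lineRoots i.val (by
      fin_cases i <;> simp_all)
    simp only [Bool.and_eq_true, decide_eq_true_eq] at hh
    obtain ⟨⟨⟨h1, h2⟩, h3⟩, h4⟩ := hh
    set r := L.el (Data.lineRoots.getD i.val (0, [])) with hrdef
    have hline1 : (Data.lines.getD i.val (0, [])).1 < 512 := by
      have := List.all_eq_true.1 check_lines.1 i.val (List.mem_range.2 i.isLt)
      simp only [Bool.and_eq_true, decide_eq_true_eq] at this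
      exact this.1.1.1.1
    have hr2 : r * r = z := by
      rw [hrdef, L.el_mul h1 h1,
        L.el_eq_of_same hT S (qm_lt _ h1 _ (act_lt _ _ h1)) (by norm_num) h2, L.el_z hT]
    have hrz : Commute r z := L.el_comm h1
    have hra : Commute r a := L.el_commute hT h1 hr h3 S
    have hrl : Commute r (ℓ i) := L.el_commute hT h1 hline1 h4 S
    set r' := σ * r * σ⁻¹ with hr'
    have hr'z : Commute r' z := by rw [← hσa]; exact commute_up σ hra
    have hr'a : Commute r' a := by rw [← hσz]; exact commute_up σ hrz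
    have hr'sq : r' * r' = a := by rw [hr', conj_mul, hr2, hσz]
    have hr'l : Commute r' (ℓ (f i)) := by
      have hc := commute_up σ hrl
      rcases hf i with p | p
      · rwa [p] at hc
      · rw [p] at hc
        have := hc.pow_right 2
        rwa [← pow_mul, hmod, pow_one] at this
    have hk : S.act r' ∈ L.centT S := by
      refine ⟨S.act_mem_grp hr'z, mem_cent_iff.2 ?_⟩
      show S.act r' * _ = _ * S.act r'
      rw [← hact, ← S.act_mul hr'z haz, ← S.act_mul haz hr'z, hr'a.eq]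
    have key : ∀ j : Fin 4, (j.val = 0 ∨ j.val = 1) → f i ≠ j := by
      rintro j hj rfl
      refine (L.line_cent S hT (f i).val hj).2 _ hk ?_ ?_
      · show S.act r' * _ = _ * S.act r'
        have hl1 : (Data.lines.getD (f i).val (0, [])).1 < 512 := by
          have := List.all_eq_true.1 check_lines.1 (f i).val (List.mem_range.2 (f i).isLt)
          simp only [Bool.and_eq_true, decide_eq_true_eq] at this
          exact this.1.1.1.1
        have e := L.act_el S hl1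
        change S.act (ℓ (f i)) = _ at e
        rw [show L.aw S (Data.lines.getD (f i).val (0, [])).2 = S.act (ℓ (f i)) from e.symm,
          ← S.act_mul hr'z (hz_ _), ← S.act_mul (hz_ _) hr'z, hr'l.eq]
      · rw [← S.act_mul hr'z hr'z, hr'sq, hact]
    exact ⟨key 0 (Or.inl rfl), key 1 (Or.inr rfl)⟩
  have hfin : ∀ i j k : Fin 4, i ≠ j → i ≠ k → j ≠ k → i ≠ 0 → i ≠ 1 → j ≠ 0 → j ≠ 1 → k ≠ 0 → k ≠ 1 → False := by
    intro i j k
    fin_cases i <;> fin_cases j <;> fin_cases k <;> simp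
  obtain ⟨r0, r0'⟩ := hroot 0 (by decide)
  obtain ⟨r2, r2'⟩ := hroot 2 (by decide)
  obtain ⟨r3, r3'⟩ := hroot 3 (by decide)
  exact hfin (f 0) (f 2) (f 3) (hfinj.ne (by decide)) (hfinj.ne (by decide)) (hfinj.ne (by decide))
    r0 r0' r2 r2' r3 r3'

end Base

end Cfsg.Agent.CoTwoType
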