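import Cfsg.Agent.Lib.CoTwoType.Twist.Image

/-
Involutions of the twisted centraliser outside the core (helper33).

* `Base.exists_conj_image` : the action of an involution is conjugate to one of four words
* `Base.classify` : the involutions outside the core fall into three classes
-/

set_option autoImplicit false
set_option linter.style.haveILetI false
set_option maxRecDepth 20000

namespace Cfsg.Agent.CoTwoType

open Cfsg.Agent.Multiplier.Sp6 Twist
open CoTwoClose (mulF cone)

universe u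

/-- The three representatives. -/
def Twist.repA : ℕ × List (Fin 7) := (1, tW 2)

/-- The second. -/
def Twist.repB : ℕ × List (Fin 7) := (0, tW 2)

/-- The third. -/
def Twist.repC : ℕ × List (Fin 7) := (0, tW 3)

variable {G : Type u} [Group G] {z : G}

namespace Base

variable (L : Base z) (S : Setup z) (hT : L.Twist) [Finite G]

include hT

theorem el_z : L.el (256, []) = z := by simp [el, L.x_z]

theorem el_commute {a b : ℕ × List (Fin 7)} (ha : a.1 < 512) (hb : b.1 < 512) (h : commP a b = true)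
    (S : Setup z) : Commute (L.el a) (L.el b) := by
  show L.el a * L.el b = L.el b * L.el a
  rw [L.el_mul ha hb, L.el_mul hb ha]
  exact L.el_eq_of_same hT S (qm_lt _ ha _ (act_lt _ _ hb)) (qm_lt _ hb _ (act_lt _ _ ha)) h

/-- The action of an involution is that of a listed word after conjugation. -/
theorem exists_conj_image {p : Equiv.Perm S.Vz} (hp : p ∈ L.imgSet S) (h2 : p * p = 1) (h1 : p ≠ 1) :
    ∃ n < 144, sI n ≠ 0 ∧ ∃ c, L.Cd c (sC (sI n)) ∧ S.act c = p ∧ (Data.invCls.getD n (0, [])).1 < 4 ∧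
      ∃ d, Commute d z ∧ S.act d * p * (S.act d)⁻¹ =
        S.act ((tW (Data.invCls.getD n (0, [])).1).map L.h).prod := by
  obtain ⟨i, hi, c, hc, rfl⟩ := hp
  have hi0 : i ≠ 0 := by
    rintro rfl
    rw [sC_zero] at hc
    exact h1 (((hc.key_iff S (Cd.one L)).1 rfl).trans S.act_one)
  have hl := List.all_eq_true.1 check_listed i (List.mem_range.2 hi)
  have hk : keyC (mulF (sC i) (sC i)) = keyC cone := by
    rw [(hc.mulF hc).key_iff S (Cd.one L), S.act_mul hc.comm hc.comm, h2, S.act_one]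
  simp only [okListed, hk, bne_self_eq_false, Bool.or_false] at hl
  obtain ⟨n, hn, hni⟩ := List.getElem_of_mem (List.contains_iff_mem.1 hl)
  have hn144 : n < 144 := check_inv_len ▸ hn
  have hsI : sI n = i := by rw [sI, List.getD_eq_getElem _ _ hn, hni]
  have ho := List.all_eq_true.1 check_inv n (List.mem_range.2 hn144)
  simp only [okInv, hsI, Bool.or_eq_true, Bool.and_eq_true, beq_iff_eq, decide_eq_true_eq, hi0, false_or] at ho
  obtain ⟨hm, hkey⟩ := ho
  set w := (Data.invCls.getD n (0, [])).2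
  refine ⟨n, hn144, hsI ▸ hi0, c, hsI.symm ▸ hc, rfl, hm, (w.map L.h).prod, L.word_comm w, ?_⟩
  rw [← L.act_conj S hT hc.comm w]
  exact ((((Cd.word L w).mulF hc).mulF (Cd.word L w.reverse)).key_iff S (Cd.word L _)).1 hkey

include S in
/-- A lift squares to one when its test holds. -/
theorem isInv_of_sq {m v : ℕ} (hm : m < 4) (hv : v < 512) (h : L.el (v, tW m) * L.el (v, tW m) = 1) :
    isInv m v = true := by
  obtain ⟨hk, hs, -⟩ := check_tw m hm
  have hact : S.act ((tW m ++ tW m).map L.h).prod = 1 :=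
    (S.act_eq_one (L.word_comm _)).2 (((Cd.word L _).key_one S).1 hk)
  obtain ⟨w1, w2⟩ := L.word_sign S hT hact
  have e := L.el_mul (a := (v, tW m)) (b := (v, tW m)) hv hv
  rw [h] at e
  have hq : qm v (actW (tW m) v) < 512 := qm_lt _ hv _ (act_lt _ _ hv)
  have hw : ((tW m ++ tW m).map L.h).prod = L.x (sqBit m) := by
    rcases hs with e1 | e1
    · rw [w1 e1, sqBit, show (appV (tW m ++ tW m) 1 == 2) = false by rw [e1]; rfl, cond_false, L.x_zero]
    · rw [w2 e1, sqBit, show (appV (tW m ++ tW m) 1 == 2) = true by rw [e1]; rfl, cond_true, L.x_z]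
  have hb : sqBit m < 512 := by
    rcases hs with e1 | e1 <;> simp [sqBit, e1]
  change 1 = L.x (qm v (actW (tW m) v)) * ((tW m ++ tW m).map L.h).prod at e
  rw [hw, L.x_mul _ hq _ hb, ← L.x_zero] at e
  simp only [isInv, beq_iff_eq]
  exact (L.x_inj _ (by norm_num) _ (qm_lt _ hq _ hb) e).symm

/-- An involution with the action of a class is conjugate to a representative. -/
theorem exists_lift {m : ℕ} (hm : m < 4) {c : G} (hc : Commute c z) (h2 : c * c = 1)
    (hact : S.act c = S.act ((tW m).map L.h).prod) :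
    (m = 2 ∨ m = 3) ∧ ∃ v < 512, L.el (v, tW m) = c ∧ isInv m v = true := by
  have hp := L.word_comm (tW m)
  have hu : c * ((tW m).map L.h).prod⁻¹ ∈ S.Q := by
    refine (S.act_eq_one (hc.mul_left hp.inv_left)).1 ?_
    rw [S.act_mul hc hp.inv_left, hact, ← S.act_mul hp hp.inv_left, mul_inv_cancel, S.act_one]
  obtain ⟨v, hv, hve⟩ := (L.mem_Q_iff S).1 hu
  have he : L.el (v, tW m) = c := by
    show L.x v * ((tW m).map L.h).prod = c
    rw [hve, inv_mul_cancel_right]
  have hi := L.isInv_of_sq S hT hm hv (by rw [he]; exact h2)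
  refine ⟨?_, v, hv, he, hi⟩
  by_contra hne
  have := List.all_eq_true.1 (List.all_eq_true.1 check_noinv m (List.mem_range.2 (by omega))) v
    (List.mem_range.2 hv)
  rw [hi] at this
  exact Bool.false_ne_true this

include S

/-- The involutions outside the core. -/
theorem classify {c : G} (hc : Commute c z) (h2 : c * c = 1) (hQ : c ∉ S.Q) :
    ∃ r, (r = repA ∨ r = repB ∨ r = repC) ∧ ∃ d, Commute d z ∧ d * c * d⁻¹ = L.el r := by
  have h1 : S.act c ≠ 1 := fun h => hQ ((S.act_eq_one hc).1 h)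
  have hpp : S.act c * S.act c = 1 := by rw [← S.act_mul hc hc, h2, S.act_one]
  obtain ⟨d₀, hd₀, hmem⟩ := L.exists_conj_img S (S.act_mem_grp hc) (n := 1) (by rw [pow_one, pow_two, hpp])
  obtain ⟨n, hn, -, -, -, -, hm, d₁, hd₁, e₁⟩ := L.exists_conj_image S hT hmem
    (by rw [conj_mul, hpp, mul_one, mul_inv_cancel])
    (by rw [ne_eq, conj_eq_one_iff]; exact h1)
  set m := (Data.invCls.getD n (0, [])).1
  set d := d₁ * d₀ with hd
  have hdz : Commute d z := hd₁.mul_left hd₀
  have hconj : S.act (d * c * d⁻¹) = S.act ((tW m).map L.h).prod := by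
    rw [← e₁, hd, show d₁ * d₀ * c * (d₁ * d₀)⁻¹ = d₁ * (d₀ * c * d₀⁻¹) * d₁⁻¹ by group]
    have hin : ∀ {x y : G}, Commute x z → Commute y z → S.act (x * y * x⁻¹) = S.act x * S.act y * (S.act x)⁻¹ := by
      intro x y hx hy
      rw [S.act_mul (hx.mul_left hy) hx.inv_left, S.act_mul hx hy]
      congr 1
      exact eq_inv_of_mul_eq_one_left (by rw [← S.act_mul hx.inv_left hx, inv_mul_cancel, S.act_one])
    rw [hin hd₁ ((hd₀.mul_left hc).mul_left hd₀.inv_left), hin hd₀ hc]
  obtain ⟨hm', v, hv, hve, hi⟩ := L.exists_lift S hT hm ((hdz.mul_left hc).mul_left hdz.inv_left)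
    (by rw [conj_mul, h2, mul_one, mul_inv_cancel]) hconj
  obtain ⟨lst, rs, hck, hrs⟩ : ∃ lst rs, (List.range 512).all (okLift m lst rs) = true ∧
      ∀ r ∈ rs, r < 512 ∧ ((r, tW m) = repA ∨ (r, tW m) = repB ∨ (r, tW m) = repC) := by
    rcases hm' with e | e <;> rw [e]
    · exact ⟨_, _, check_lift2, fun r hr => by
        rcases List.mem_pair.1 hr with rfl | rfl
        exacts [⟨by norm_num, Or.inr (Or.inl rfl)⟩, ⟨by norm_num, Or.inl rfl⟩]⟩
    · exact ⟨_, _, check_lift3, fun r hr => by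
        obtain rfl := List.mem_singleton.1 hr
        exact ⟨by norm_num, Or.inr (Or.inr rfl)⟩⟩
  have hl := List.all_eq_true.1 hck v (List.mem_range.2 hv)
  simp only [okLift, hi, Bool.not_true, Bool.false_or, List.any_eq_true, Bool.and_eq_true, beq_iff_eq,
    decide_eq_true_eq, List.contains_iff_mem] at hl
  obtain ⟨⟨v', r, e⟩, -, ⟨⟨rfl, hr⟩, he⟩, hsame⟩ := hl
  obtain ⟨hr512, hrep⟩ := hrs r hr
  refine ⟨_, hrep, (L.el e)⁻¹ * d, (L.el_comm he).inv_left.mul_left hdz, ?_⟩
  have hlift : L.el e * L.el (r, tW m) = L.el (v', tW m) * L.el e := by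
    rw [L.el_mul he hr512, L.el_mul hv he]
    exact L.el_eq_of_same hT S (qm_lt _ he _ (act_lt _ _ hr512)) (qm_lt _ hv _ (act_lt _ _ he)) hsame
  calc (L.el e)⁻¹ * d * c * ((L.el e)⁻¹ * d)⁻¹ = (L.el e)⁻¹ * (d * c * d⁻¹) * L.el e := by group
    _ = (L.el e)⁻¹ * (L.el (v', tW m) * L.el e) := by rw [← hve]; group
    _ = _ := by rw [← hlift]; group

end Base

end Cfsg.Agent.CoTwoType
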