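import Cfsg.Agent.Lib.CoTwoType.Twist.Word
import Cfsg.Agent.Lib.CoTwoClose.Fast

/-
Codes in the twisted centraliser (helper33).

* `keyC`, `Base.Cd` : the code of the conjugation on the core; `Cd.key_iff` : keys agree when the actions agree
* `Base.pv`, `pv_inj`, `pv_surj` : coordinates of the space
* `one1`, `sameT`, `el_eq_of_same` : equality of pairs
-/

set_option autoImplicit false
set_option linter.style.haveILetI false
set_option maxRecDepth 20000

namespace Cfsg.Agent.CoTwoType

open Cfsg.Agent.Multiplier.Sp6 Twist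
open CoTwoClose (pack fM cone letC cmul appC mulF vecC fM_lt fM_pack zPart zPart_lt prodBits_lt check_id check_img
  mulF_eq wordE appC_lt)

universe u

/-- The images modulo the centre. -/
def keyC (e : ℕ) : ℕ :=
  pack 0 (fM e 0 % 256) (fM e 1 % 256) (fM e 2 % 256) (fM e 3 % 256) (fM e 4 % 256) (fM e 5 % 256)
    (fM e 6 % 256) (fM e 7 % 256)

theorem keyC_eq_iff {e f : ℕ} : keyC e = keyC f ↔ ∀ S < 8, fM e S % 256 = fM f S % 256 := by
  have hk : ∀ d S, S < 8 → fM (keyC d) S = fM d S % 256 := fun d S hS =>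
    fM_pack (v := 0) (by norm_num) (f := fun S => fM d S % 256) (fun S => by omega) S hS
  constructor
  · intro h S hS; rw [← hk e S hS, h, hk f S hS]
  · intro h
    unfold keyC
    rw [h 0 (by norm_num), h 1 (by norm_num), h 2 (by norm_num), h 3 (by norm_num), h 4 (by norm_num),
      h 5 (by norm_num), h 6 (by norm_num), h 7 (by norm_num)]

/-- A word as a code. -/
def wordF (l : List (Fin 7)) : ℕ := l.foldr (fun j e => mulF (letC j.val) e) cone

theorem wordF_cons (j : Fin 7) (l : List (Fin 7)) : wordF (j :: l) = mulF (letC j.val) (wordF l) := by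
  simp only [wordF, List.foldr_cons]

theorem xor256 : ∀ v < 512, v ^^^ 256 = if v < 256 then v + 256 else v - 256 := by decide +kernel

theorem qm256 {v : ℕ} (hv : v < 512) : qm v 256 = v ^^^ 256 := (qm_zero v hv).2.2.1

theorem eq_or_xor {v w : ℕ} (hv : v < 512) (hw : w < 512) :
    v % 256 = w % 256 ↔ (v = w ∨ v = w ^^^ 256) := by
  rw [xor256 w hw]
  split_ifs <;> omega

variable {G : Type u} [Group G] {z : G}

namespace Base

variable (L : Base z)

/-- An element with a code. -/
structure Cd (c : G) (e : ℕ) : Prop where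
  comm : Commute c z
  img : ∀ S < 8, c * L.x (1 <<< S) * c⁻¹ = L.x (fM e S)

theorem bit_lt' {S : ℕ} (hS : S < 8) : 1 <<< S < 512 := by interval_cases S <;> decide

variable {L}

theorem Cd.app {c : G} {e : ℕ} (hc : L.Cd c e) {v : ℕ} (hv : v < 512) :
    c * L.x v * c⁻¹ = L.x (appC e v) := by
  have key : ∀ n ≤ 8, prodBits (fun S => 1 <<< S) v n < 512 ∧
      c * L.x (prodBits (fun S => 1 <<< S) v n) * c⁻¹ = L.x (prodBits (fM e) v n) := by
    intro n hn
    induction n with
    | zero => exact ⟨by simp [prodBits], by simp [prodBits, L.x_zero]⟩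
    | succ n ih =>
      obtain ⟨hlt, ih⟩ := ih (by omega)
      simp only [prodBits]
      cases v.testBit n
      · exact ⟨hlt, ih⟩
      · refine ⟨qm_lt _ hlt _ (bit_lt' (by omega)), ?_⟩
        simp only [cond_true]
        rw [← L.x_mul _ hlt _ (bit_lt' (by omega)), ← L.x_mul _ (prodBits_lt (fM_lt e) v n) _ (fM_lt e n),
          ← ih, ← hc.img n (by omega)]
        group
  obtain ⟨hlt, h⟩ := key 8 le_rfl
  rw [appC, ← L.x_mul _ (prodBits_lt (fM_lt e) v 8) _ (zPart_lt v), ← h]
  conv_lhs => rw [← check_id v hv, ← L.x_mul _ hlt _ (zPart_lt v)]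
  have hz : ∀ w, (w = 0 ∨ w = 256) → c * L.x w * c⁻¹ = L.x w := by
    rintro w (rfl | rfl)
    · rw [L.x_zero, mul_one, mul_inv_cancel]
    · rw [L.x_z]; exact mul_inv_eq_iff_eq_mul.2 hc.comm.eq
  calc c * (L.x (prodBits (fun S => 1 <<< S) v 8) * L.x (zPart v)) * c⁻¹
      = c * L.x (prodBits (fun S => 1 <<< S) v 8) * c⁻¹ * (c * L.x (zPart v) * c⁻¹) := by group
    _ = _ := by rw [hz _ (CoTwoClose.zPart_or v)]

theorem Cd.mul {c d : G} {e f : ℕ} (hc : L.Cd c e) (hd : L.Cd d f) : L.Cd (c * d) (cmul e f) := by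
  refine ⟨hc.comm.mul_left hd.comm, fun S hS => ?_⟩
  have hp := fM_pack (CoTwoClose.qm_lt (CoTwoClose.fV_lt e) (appC_lt e (CoTwoClose.fV f)))
    (f := fun S => appC e (fM f S)) (fun S => appC_lt e _) S hS
  rw [cmul, hp, ← hc.app (fM_lt f S), ← hd.img S hS]
  group

theorem Cd.mulF {c d : G} {e f : ℕ} (hc : L.Cd c e) (hd : L.Cd d f) : L.Cd (c * d) (CoTwoClose.mulF e f) := by
  rw [mulF_eq]; exact hc.mul hd

variable (L)

theorem Cd.one : L.Cd 1 cone := by
  refine ⟨Commute.one_left z, fun S hS => ?_⟩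
  have hp := fM_pack (f := fun S => if S < 8 then 1 <<< S else 0) (v := 0) (by norm_num) (fun S => by
    by_cases h : S < 8
    · simp only [if_pos h]; exact bit_lt' h
    · simp [if_neg h]) S hS
  simp only [if_pos hS] at hp
  rw [one_mul, inv_one, mul_one, cone, vecC]
  exact congrArg L.x hp.symm

theorem Cd.letter (j : Fin 7) : L.Cd (L.h j) (letC j.val) := by
  refine ⟨L.h_z j, fun S hS => ?_⟩
  have him : ∀ S, CoTwoType.img j.val S < 512 := fun S => by
    by_cases hS : S < 8
    · rw [← check_img j.val j.isLt S hS]; exact sig_lt _ j.isLt _ (bit_lt' hS)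
    · have hl : (imgs.getD j.val []).length = 8 := by
        obtain ⟨j, hj⟩ := j
        interval_cases j <;> rfl
      rw [CoTwoType.img, List.getD_eq_default _ _ (by rw [hl]; omega)]
      norm_num
  rw [letC, fM_pack (by norm_num) him S hS, L.h_conj j _ (bit_lt' hS), check_img j.val j.isLt S hS]

theorem Cd.word : ∀ l : List (Fin 7), L.Cd (l.map L.h).prod (wordF l)
  | [] => Cd.one L
  | j :: l => by
    simp only [List.map_cons, List.prod_cons, wordF_cons]
    exact (Cd.letter L j).mulF (Cd.word l)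

variable (S : Setup z)

/-- The coordinates. -/
noncomputable def pv (v : ℕ) : S.Vz := S.vc (L.x v)

theorem pv_inj {v w : ℕ} (hv : v < 512) (hw : w < 512) : L.pv S v = L.pv S w ↔ v % 256 = w % 256 := by
  rw [pv, pv, S.vc_eq (L.x_memQ S hv) (L.x_memQ S hw), eq_or_xor hv hw]
  have hx : L.x w * z = L.x (w ^^^ 256) := by
    rw [show L.x w * z = L.x w * L.x 256 from congrArg (L.x w * ·) L.x_z.symm, L.x_mul w hw _ (by norm_num),
      qm256 hw]
  rw [hx]
  refine or_congr ⟨L.x_inj v hv w hw, fun h => by rw [h]⟩ ⟨L.x_inj v hv _ ?_, fun h => by rw [h]⟩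
  rw [xor256 w hw]; split_ifs <;> omega

theorem pv_surj (u : S.Vz) : ∃ v < 256, L.pv S v = u := by
  obtain ⟨a, ha, rfl⟩ := S.vc_surj u
  obtain ⟨v, hv, rfl⟩ := (L.mem_Q_iff S).1 ha
  exact ⟨v % 256, Nat.mod_lt _ (by norm_num), (L.pv_inj S (by omega) hv).2 (Nat.mod_mod _ _)⟩

theorem act_pv {c : G} {e : ℕ} (hc : L.Cd c e) {v : ℕ} (hv : v < 512) :
    S.act c (L.pv S v) = L.pv S (appC e v) := by
  rw [pv, S.act_vc hc.comm (L.x_memQ S hv), hc.app hv, pv]

variable {L}

theorem Cd.key_iff {c d : G} {e f : ℕ} (hc : L.Cd c e) (hd : L.Cd d f) :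
    keyC e = keyC f ↔ S.act c = S.act d := by
  rw [keyC_eq_iff]
  constructor
  · intro h
    have h1 : ∀ n ≤ 8, ∀ v, S.act c (L.pv S (prodBits (fun S => 1 <<< S) v n)) =
        S.act d (L.pv S (prodBits (fun S => 1 <<< S) v n)) ∧ prodBits (fun S => 1 <<< S) v n < 512 := by
      intro n hn
      induction n with
      | zero =>
        intro v
        refine ⟨?_, by simp [prodBits]⟩
        rw [show prodBits (fun S => 1 <<< S) v 0 = 0 from rfl, pv, L.x_zero, S.vc_one,
          CaseR.Space.isom_zero (S.act_isom hc.comm), CaseR.Space.isom_zero (S.act_isom hd.comm)]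
      | succ n ih =>
        intro v
        obtain ⟨ih, hlt⟩ := ih (by omega) v
        simp only [prodBits]
        cases v.testBit n
        · exact ⟨ih, hlt⟩
        · simp only [cond_true]
          refine ⟨?_, qm_lt _ hlt _ (bit_lt' (by omega))⟩
          rw [pv, ← L.x_mul _ hlt _ (bit_lt' (by omega)), S.vc_mul (L.x_memQ S hlt) (L.x_memQ S (bit_lt' (by omega))),
            CaseR.Space.isom_add (S.act_isom hc.comm), CaseR.Space.isom_add (S.act_isom hd.comm)]
          change S.act c (L.pv S _) + S.act c (L.pv S _) = S.act d (L.pv S _) + S.act d (L.pv S _)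
          rw [ih]
          congr 1
          rw [L.act_pv S hc (bit_lt' (by omega)), L.act_pv S hd (bit_lt' (by omega)),
            L.pv_inj S (appC_lt _ _) (appC_lt _ _)]
          have e1 := hc.app (v := 1 <<< n) (bit_lt' (by omega))
          have e2 := hd.app (v := 1 <<< n) (bit_lt' (by omega))
          rw [hc.img n (by omega)] at e1
          rw [hd.img n (by omega)] at e2
          rw [← L.x_inj _ (fM_lt e n) _ (appC_lt _ _) e1, ← L.x_inj _ (fM_lt f n) _ (appC_lt _ _) e2]
          exact h n (by omega)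
    refine Equiv.ext fun u => ?_
    obtain ⟨v, hv, rfl⟩ := L.pv_surj S u
    have hv' : v < 512 := by omega
    have h2 : L.pv S v = L.pv S (prodBits (fun S => 1 <<< S) v 8) := by
      obtain ⟨-, hlt⟩ := h1 8 le_rfl v
      refine (L.pv_inj S hv' hlt).2 ?_
      have := check_id v hv'
      rcases CoTwoClose.zPart_or v with r | r <;> rw [r] at this
      · rw [(qm_zero _ hlt).1] at this; rw [this]
      · rw [qm256 hlt, xor256 _ hlt] at this
        split_ifs at this <;> omega
    rw [h2]
    exact (h1 8 le_rfl v).1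
  · intro h S' hS'
    refine (L.pv_inj S (fM_lt e S') (fM_lt f S')).1 ?_
    have h1 := congrArg (fun g : Equiv.Perm S.Vz => g (L.pv S (1 <<< S'))) h
    simp only [L.act_pv S hc (bit_lt' hS'), L.act_pv S hd (bit_lt' hS')] at h1
    have e1 := hc.app (bit_lt' hS')
    have e2 := hd.app (bit_lt' hS')
    rw [hc.img S' hS'] at e1
    rw [hd.img S' hS'] at e2
    rw [L.x_inj _ (fM_lt e S') _ (appC_lt _ _) e1, L.x_inj _ (fM_lt f S') _ (appC_lt _ _) e2]
    exact h1

theorem Cd.key_one {c : G} {e : ℕ} (hc : L.Cd c e) : keyC e = keyC cone ↔ c ∈ S.Q := by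
  rw [hc.key_iff S (Cd.one L), S.act_one, S.act_eq_one hc.comm]

end Base

/-! ### Pairs -/

/-- The inverse of a pair. -/
def invT (a : ℕ × List (Fin 7)) : ℕ × List (Fin 7) :=
  (qm (actW a.2.reverse (invQ a.1)) (bif a.2.length % 2 == 1 then 256 else 0), a.2.reverse)

/-- The pair gives the neutral element. -/
def one1 (a : ℕ × List (Fin 7)) : Bool :=
  keyC (wordF a.2) == keyC cone &&
    ((a.1 == 0 && appV a.2 1 == 1) || (a.1 == 256 && appV a.2 1 == 2))

/-- Two pairs give the same element. -/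
def sameT (a b : ℕ × List (Fin 7)) : Bool := one1 (mulP a (invT b))

theorem invT_lt {a : ℕ × List (Fin 7)} (ha : a.1 < 512) : (invT a).1 < 512 := by
  refine qm_lt _ (act_lt _ _ (invQ_spec _ ha).1) _ ?_
  cases a.2.length % 2 == 1 <;> norm_num

namespace Base

variable (L : Base z) (hT : L.Twist)

include hT

theorem prod_rev (l : List (Fin 7)) :
    (l.map L.h).prod⁻¹ = (l.reverse.map L.h).prod * (if l.length % 2 = 1 then z else 1) := by
  induction l with
  | nil => simp
  | cons j l ih =>
    have hz : z * z = 1 := z_sq L.z_ord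
    have hj : (L.h j)⁻¹ = L.h j * z := inv_eq_of_mul_eq_one_right (by rw [← mul_assoc, hT.sq, hz])
    rw [List.map_cons, List.prod_cons, mul_inv_rev, ih, hj, List.reverse_cons, List.map_append, List.prod_append,
      List.length_cons]
    simp only [List.map_cons, List.map_nil, List.prod_cons, List.prod_nil, mul_one]
    rcases Nat.mod_two_eq_zero_or_one l.length with e | e
    · rw [if_neg (by omega), if_pos (show (l.length + 1) % 2 = 1 by omega), mul_one]; group
    · rw [if_pos e, if_neg (show ¬ (l.length + 1) % 2 = 1 by omega), mul_one,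
        mul_assoc _ z, ← mul_assoc z, ← (L.h_z j).eq, mul_assoc (L.h j) z z, hz, mul_one]

theorem el_invT {a : ℕ × List (Fin 7)} (ha : a.1 < 512) : (L.el a)⁻¹ = L.el (invT a) := by
  have h1 := (invQ_spec a.1 ha).1
  have hw := L.word_conj a.2.reverse (invQ a.1) h1
  have hb : ∀ b : Bool, (bif b then (256 : ℕ) else 0) < 512 := by decide
  show _ = L.x (qm (actW a.2.reverse (invQ a.1)) _) * (a.2.reverse.map L.h).prod
  rw [el, mul_inv_rev, L.x_inv ha, L.prod_rev hT, ← L.x_mul _ (act_lt _ _ h1) _ (hb _), ← hw]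
  have hc : Commute (a.2.reverse.map L.h).prod z := L.word_comm _
  have hv : Commute (L.x (invQ a.1)) z := L.x_comm h1
  rcases Nat.mod_two_eq_zero_or_one a.2.length with e | e
  · rw [if_neg (by omega), show (a.2.length % 2 == 1) = false by rw [e]; rfl, cond_false, L.x_zero]; group
  · rw [if_pos e, show (a.2.length % 2 == 1) = true by rw [e]; rfl, cond_true, L.x_z]
    calc (a.2.reverse.map L.h).prod * z * L.x (invQ a.1)
        = (a.2.reverse.map L.h).prod * (L.x (invQ a.1) * z) := by rw [mul_assoc, hv.eq]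
      _ = (a.2.reverse.map L.h).prod * L.x (invQ a.1) * ((a.2.reverse.map L.h).prod⁻¹ *
            (a.2.reverse.map L.h).prod) * z := by group
      _ = _ := by rw [← mul_assoc, mul_assoc _ (a.2.reverse.map L.h).prod z, hc.eq, ← mul_assoc]

theorem el_one1 (S : Setup z) {a : ℕ × List (Fin 7)} (h : one1 a = true) : L.el a = 1 := by
  simp only [one1, Bool.and_eq_true, Bool.or_eq_true, beq_iff_eq] at h
  obtain ⟨hk, hs⟩ := h
  have hact : S.act (a.2.map L.h).prod = 1 :=
    (S.act_eq_one (L.word_comm a.2)).2 (((Cd.word L a.2).key_one S).1 hk)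
  obtain ⟨h1, h2⟩ := L.word_sign S hT hact
  rcases hs with ⟨hv, hs⟩ | ⟨hv, hs⟩
  · rw [el, hv, L.x_zero, h1 hs, mul_one]
  · rw [el, hv, L.x_z, h2 hs, z_sq L.z_ord]

theorem el_eq_of_same (S : Setup z) {a b : ℕ × List (Fin 7)} (ha : a.1 < 512) (hb : b.1 < 512)
    (h : sameT a b = true) : L.el a = L.el b := by
  have := L.el_one1 hT S h
  rw [← L.el_mul ha (invT_lt hb), ← L.el_invT hT hb, mul_inv_eq_one] at this
  exact this

end Base

end Cfsg.Agent.CoTwoType
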