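import Cfsg.Agent.Lib.CoTwoType.Twist.Classify
import Cfsg.Agent.Lib.CoTwoType.CaseR.Tools

/-
Conjugates of the central involution in the twisted centraliser; the third class (helper33).

* `WC` : weak closure in the core
* `Base.exists_rep_conj`, `Base.exists_root` : representatives and roots
* `Base.not_repC` : the third class does not meet the class of `z`
-/

set_option autoImplicit false
set_option linter.style.haveILetI false
set_option maxRecDepth 20000

namespace Cfsg.Agent.CoTwoType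

open Cfsg.Agent.Multiplier.Sp6 Twist
open CoTwoClose (mulF cone appC appF appF_eq appC_lt)

universe u

variable {G : Type u} [Group G] {z : G}

/-- The central involution is weakly closed in the core. -/
def Setup.WC (S : Setup z) : Prop := ∀ c, c * z * c⁻¹ ∈ S.Q → c * z * c⁻¹ = z

namespace Base

variable (L : Base z) (S : Setup z) (hT : L.Twist) [Finite G] (hwc : S.WC)

include S hT

theorem exists_root {r : ℕ × List (Fin 7)} (hr : r = repA ∨ r = repB ∨ r = repC) :
    ∃ d, Commute d z ∧ Commute d (L.el r) ∧ d * d = z := by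
  have h := check_roots
  simp only [List.all_cons, List.all_nil, Bool.and_true, Bool.and_eq_true, decide_eq_true_eq] at h
  have key : ∀ d : ℕ × List (Fin 7), r.1 < 512 → (d.1 < 512 ∧ sameT (mulP d d) (256, []) = true) ∧
      commP d r = true → ∃ d, Commute d z ∧ Commute d (L.el r) ∧ d * d = z := fun d hr' hd =>
    ⟨L.el d, L.el_comm hd.1.1, L.el_commute hT hd.1.1 hr' hd.2 S, by
      rw [L.el_mul hd.1.1 hd.1.1, L.el_eq_of_same hT S (qm_lt _ hd.1.1 _ (act_lt _ _ hd.1.1)) (by norm_num) hd.1.2,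
        L.el_z hT]⟩
  rcases hr with rfl | rfl | rfl
  · exact key _ (by decide) h.1
  · exact key _ (by decide) h.2.1
  · exact key _ (by decide) h.2.2

include hwc

theorem exists_rep_conj {g : G} (hc : Commute (g * z * g⁻¹) z) (hne : g * z * g⁻¹ ≠ z) :
    ∃ r, (r = repA ∨ r = repB ∨ r = repC) ∧ ∃ e, Commute e z ∧ e * (g * z * g⁻¹) * e⁻¹ = L.el r := by
  refine L.classify S hT hc ?_ fun h => hne (hwc g h)
  rw [conj_mul, S.zz, mul_one, mul_inv_cancel]

/-- A conjugate in the centraliser is the square of an element commuting with both. -/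
theorem exists_root_conj {g : G} (hc : Commute (g * z * g⁻¹) z) (hne : g * z * g⁻¹ ≠ z) :
    ∃ d, Commute d z ∧ Commute d (g * z * g⁻¹) ∧ d * d = g * z * g⁻¹ := by
  have hc' : Commute (g⁻¹ * z * g⁻¹⁻¹) z := by rw [inv_inv]; exact commute_down g hc.symm
  have hne' : g⁻¹ * z * g⁻¹⁻¹ ≠ z := by
    rw [inv_inv]
    intro e
    refine hne ?_
    conv_lhs => rw [← e]
    group
  obtain ⟨r, hr, e, he, her⟩ := L.exists_rep_conj S hT hwc hc' hne'
  obtain ⟨d, hdz, hda, hd⟩ := L.exists_root S hT hr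
  rw [← her] at hda
  have hgz : g * (e⁻¹ * z * e) * g⁻¹ = g * z * g⁻¹ := by rw [mul_assoc e⁻¹, ← he.eq, inv_mul_cancel_left]
  refine ⟨g * (e⁻¹ * d * e) * g⁻¹, ?_, ?_, ?_⟩
  · have h : Commute (g * (e⁻¹ * d * e) * g⁻¹) (g * (g⁻¹ * z * g⁻¹⁻¹) * g⁻¹) :=
      commute_up g (commute_down e hda)
    rwa [show g * (g⁻¹ * z * g⁻¹⁻¹) * g⁻¹ = z by group] at h
  · rw [← hgz]
    have := commute_up g (commute_up e⁻¹ hdz)
    rwa [inv_inv] at this
  · rw [show g * (e⁻¹ * d * e) * g⁻¹ * (g * (e⁻¹ * d * e) * g⁻¹) = g * (e⁻¹ * (d * d) * e) * g⁻¹ by group, hd,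
      hgz]

omit hwc hT in
/-- The fixed vectors of a word. -/
theorem card_fixed (l : List (Fin 7)) :
    Nat.card {u : S.Vz // S.act (l.map L.h).prod u = u} = fixCount l := by
  let Fs : Finset ℕ := (Finset.range 256).filter fun v => (appF (wordF l) v % 256 == v) = true
  have hcard : Fs.card = fixCount l := by
    rw [fixCount, List.countP_eq_length_filter]
    simp only [Fs, Finset.card_def, Finset.filter_val, Finset.range_val, Multiset.range, Multiset.filter_coe,
      Multiset.coe_card, Bool.decide_eq_true]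
  rw [← hcard, ← Nat.card_eq_finsetCard]
  have hmem : ∀ v : ↥Fs, S.act (l.map L.h).prod (L.pv S v.1) = L.pv S v.1 := fun v => by
    have hv := Finset.mem_filter.1 v.2
    have hv' : v.1 < 512 := by have := Finset.mem_range.1 hv.1; omega
    rw [L.act_pv S (Cd.word L l) hv', L.pv_inj S (appC_lt _ _) hv', ← appF_eq _ hv', beq_iff_eq.1 hv.2]
    exact (Nat.mod_eq_of_lt (Finset.mem_range.1 hv.1)).symm
  symm
  refine Nat.card_eq_of_bijective
    (fun v => (⟨L.pv S v.1, hmem v⟩ : {u : S.Vz // S.act (l.map L.h).prod u = u})) ⟨?_, ?_⟩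
  · intro v w e
    have hv := Finset.mem_range.1 (Finset.mem_filter.1 v.2).1
    have hw := Finset.mem_range.1 (Finset.mem_filter.1 w.2).1
    have := (L.pv_inj S (v := v.1) (w := w.1) (by omega) (by omega)).1 (congrArg Subtype.val e)
    exact Subtype.ext (by omega)
  · rintro ⟨u, hu⟩
    obtain ⟨v, hv, rfl⟩ := L.pv_surj S u
    have hv' : v < 512 := by omega
    rw [L.act_pv S (Cd.word L l) hv', L.pv_inj S (appC_lt _ _) hv', ← appF_eq _ hv'] at hu
    refine ⟨⟨v, Finset.mem_filter.2 ⟨Finset.mem_range.2 hv, beq_iff_eq.2 ?_⟩⟩, rfl⟩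
    rw [hu, Nat.mod_eq_of_lt hv]

/-- The third class is not conjugate to `z`. -/
theorem not_repC {g : G} (h : g * z * g⁻¹ = L.el repC) : False := by
  have hr512 : repC.1 < 512 := by decide
  have hcz : Commute (g * z * g⁻¹) z := h ▸ L.el_comm hr512
  have hact : S.act (g * z * g⁻¹) = S.act ((tW 3).map L.h).prod := by
    rw [h, L.act_el S hr512]; rfl
  have h3ne : S.act ((tW 3).map L.h).prod ≠ 1 := fun e =>
    (check_tw 3 (by norm_num)).2.2
      (((Cd.word L (tW 3)).key_one S).2 ((S.act_eq_one (L.word_comm _)).1 e))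
  have hne : g * z * g⁻¹ ≠ z := fun e => h3ne (by
    rw [← hact, e]; exact (S.act_eq_one rfl).2 S.z_mem)
  obtain ⟨d, hdz, hda, hd⟩ := L.exists_root_conj S hT hwc hcz hne
  have haa : g * z * g⁻¹ * (g * z * g⁻¹) = 1 := by rw [conj_mul, S.zz, mul_one, mul_inv_cancel]
  have hk2 : S.act d * S.act d = S.act (g * z * g⁻¹) := by rw [← S.act_mul hdz hdz, hd]
  have hA2 : S.act (g * z * g⁻¹) * S.act (g * z * g⁻¹) = 1 := by rw [← S.act_mul hcz hcz, haa, S.act_one]
  obtain ⟨e, hez, i, hi, c, hci, hc⟩ := L.exists_conj_img S (S.act_mem_grp hdz) (n := 2) (by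
    rw [show (2 : ℕ) ^ 2 = 2 * 2 by norm_num, pow_mul, pow_two (S.act d), hk2, pow_two, hA2])
  have hsq : S.act (c * c) = S.act e * S.act (g * z * g⁻¹) * (S.act e)⁻¹ := by
    rw [S.act_mul hci.comm hci.comm, hc, conj_mul, hk2]
  have hck := List.all_eq_true.1 check_sq i (List.mem_range.2 hi)
  have h1 : keyC (mulF (sC i) (sC i)) ≠ keyC cone := fun hk => by
    rw [(hci.mulF hci).key_iff S (Cd.one L), hsq, S.act_one, conj_eq_one_iff, hact] at hk
    exact h3ne hk
  have h2 : keyC (mulF (mulF (sC i) (sC i)) (mulF (sC i) (sC i))) = keyC cone := by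
    rw [((hci.mulF hci).mulF (hci.mulF hci)).key_iff S (Cd.one L), S.act_one,
      S.act_mul (hci.comm.mul_left hci.comm) (hci.comm.mul_left hci.comm), hsq, conj_mul, hA2, mul_one,
      mul_inv_cancel]
  simp only [okSq, Bool.or_eq_true, Bool.and_eq_true, beq_iff_eq, bne_iff_ne, decide_eq_true_eq, h1, h2,
    false_or, or_false, ne_eq, not_true] at hck
  obtain ⟨⟨⟨hn, hn0⟩, hcls⟩, hkey⟩ := hck
  have ho := List.all_eq_true.1 check_inv (Data.sqIdx.getD i 0) (List.mem_range.2 hn)
  simp only [okInv, Bool.or_eq_true, Bool.and_eq_true, beq_iff_eq, decide_eq_true_eq, hn0, false_or] at ho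
  obtain ⟨hm, hconj⟩ := ho
  set m := (Data.invCls.getD (Data.sqIdx.getD i 0) (0, [])).1
  set w := (Data.invCls.getD (Data.sqIdx.getD i 0) (0, [])).2
  obtain ⟨c', hc', -⟩ := L.exists_cd (P := fun _ => True) trivial (fun _ _ _ _ _ => trivial)
    (i := sI (Data.sqIdx.getD i 0)) (by
      have hlen : Data.sqIdx.getD i 0 < CoTwoClose.ClassData.sInv.length := check_inv_len.symm ▸ hn
      have : CoTwoClose.ClassData.sInv.all (fun j => decide (j < 512)) = true := by decide +kernel
      rw [sI, List.getD_eq_getElem _ _ hlen]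
      exact of_decide_eq_true (List.all_eq_true.1 this _ (List.getElem_mem _)))
  have e1 : S.act (c * c) = S.act c' := ((hci.mulF hci).key_iff S hc').1 hkey
  have e2 := ((((Cd.word L w).mulF hc').mulF (Cd.word L w.reverse)).key_iff S (Cd.word L _)).1 hconj
  rw [L.act_conj S hT hc'.comm, ← e1, hsq] at e2
  -- an involution with the action of the class `m`
  set f := (w.map L.h).prod * e with hf
  have hfz : Commute f z := (L.word_comm w).mul_left hez
  have hinv : S.act (f⁻¹) = (S.act f)⁻¹ :=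
    eq_inv_of_mul_eq_one_left (by rw [← S.act_mul hfz.inv_left hfz, inv_mul_cancel, S.act_one])
  have e3 : S.act (f * (g * z * g⁻¹) * f⁻¹) = S.act ((tW m).map L.h).prod := by
    rw [S.act_mul (hfz.mul_left hcz) hfz.inv_left, S.act_mul hfz hcz, hinv, hf, S.act_mul (L.word_comm w) hez, ← e2]
    group
  obtain ⟨hm', -⟩ := L.exists_lift S hT hm ((hfz.mul_left hcz).mul_left hfz.inv_left)
    (by rw [conj_mul, haa, mul_one, mul_inv_cancel]) e3
  have hm2 : m = 2 := by omega
  obtain ⟨f2, f3⟩ := check_fix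
  have k2 := L.card_fixed S (tW 2)
  have k3 := L.card_fixed S (tW 3)
  rw [f2] at k2
  rw [f3, ← hact] at k3
  rw [hm2, S.act_mul (hfz.mul_left hcz) hfz.inv_left, S.act_mul hfz hcz, hinv] at e3
  rw [← e3] at k2
  have hE := Nat.card_congr
    (show {u : S.Vz // S.act (g * z * g⁻¹) u = u} ≃
        {u : S.Vz // (S.act f * S.act (g * z * g⁻¹) * (S.act f)⁻¹) u = u} from
      (S.act f).subtypeEquiv fun u => by simp)
  omega

end Base

end Cfsg.Agent.CoTwoType
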