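import Cfsg.Agent.Lib.CoTwoType.Twist.Checks
import Cfsg.Agent.Lib.CoTwoClose.SylowCheck

/-
The image of the twisted centraliser on the space (helper33).

* `Base.act_el`, `act_rev`, `tree_sound`
* `Base.img`, `exists_conj_img` : two-elements of the image are conjugate into the listed Sylow subgroup
-/

set_option autoImplicit false
set_option linter.style.haveILetI false
set_option maxRecDepth 20000

namespace Cfsg.Agent.CoTwoType

open Cfsg.Agent.Multiplier.Sp6 Twist
open scoped Pointwise
open CoTwoClose (mulF mulF_eq cone letC cmul wordE sylW sylN sylP)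

universe u

theorem Twist.tree_sound {op : ℕ → ℕ → ℕ} {gens : List ℕ} {root : ℕ} {L : List (ℕ × ℕ × ℕ)}
    (h : okTree op gens root L = true) (P : ℕ → Prop) (h0 : P root)
    (step : ∀ e, P e → ∀ g ∈ gens, P (op e g)) : ∀ p ∈ L, P p.1 := by
  have key : ∀ i < L.length, P (L.getD i (0, 0, 0)).1 := by
    intro i
    induction i using Nat.strong_induction_on with
    | _ i ih =>
      intro hi
      have hh := List.all_eq_true.1 h i (List.mem_range.2 hi)
      by_cases h1 : i = 0
      · simp only [h1, if_true, beq_iff_eq] at hh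
        rw [h1, hh]; exact h0
      · simp only [h1, if_false, Bool.and_eq_true, beq_iff_eq, decide_eq_true_eq] at hh
        obtain ⟨⟨hp, hg⟩, he⟩ := hh
        rw [he]
        refine step _ (ih _ hp (hp.trans hi)) _ ?_
        rw [List.getD_eq_getElem _ _ hg]
        exact List.getElem_mem _
  intro p hp
  obtain ⟨i, hi, rfl⟩ := List.getElem_of_mem hp
  have := key i hi
  rwa [List.getD_eq_getElem _ _ hi] at this

theorem Twist.allDiff_nodup : ∀ {l : List ℕ}, allDiff l = true → l.Nodup
  | [], _ => List.nodup_nil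
  | k :: ks, h => by
    simp only [allDiff, Bool.and_eq_true, Bool.not_eq_true'] at h
    refine List.nodup_cons.2 ⟨fun hm => ?_, allDiff_nodup h.2⟩
    rw [List.contains_iff_mem.2 hm] at h
    exact Bool.false_ne_true h.1.symm

theorem wordF_wordE : ∀ l : List (Fin 7), wordF l = wordE (l.map Fin.val)
  | [] => rfl
  | j :: l => by
    simp only [wordF_cons, mulF_eq, wordF_wordE l, List.map_cons, wordE, List.foldr_cons]

variable {G : Type u} [Group G] {z : G}

namespace Base

variable (L : Base z) (S : Setup z)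

theorem act_el {a : ℕ × List (Fin 7)} (ha : a.1 < 512) : S.act (L.el a) = S.act (a.2.map L.h).prod := by
  rw [el, S.act_mul (L.x_comm ha) (L.word_comm a.2), (S.act_eq_one (L.x_comm ha)).2 (L.x_memQ S ha), one_mul]

theorem act_rev (hT : L.Twist) (l : List (Fin 7)) :
    S.act (l.reverse.map L.h).prod = (S.act (l.map L.h).prod)⁻¹ := by
  refine eq_inv_of_mul_eq_one_left ?_
  rw [← S.act_mul (L.word_comm _) (L.word_comm l), S.act_eq_one ((L.word_comm _).mul_left (L.word_comm l))]
  have h := L.prod_rev hT l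
  set p := (l.map L.h).prod
  set r := (l.reverse.map L.h).prod
  split_ifs at h
  · have e : r * p = z := by
      have h' : r = p⁻¹ * z := by rw [h, mul_assoc, z_sq L.z_ord, mul_one]
      rw [h', mul_assoc, (L.word_comm l).symm.eq, inv_mul_cancel_left]
    rw [e]; exact S.z_mem
  · rw [mul_one] at h
    rw [← h, inv_mul_cancel]; exact one_mem _

theorem act_conj (hT : L.Twist) {c : G} (hc : Commute c z) (l : List (Fin 7)) :
    S.act ((l.map L.h).prod * c * (l.reverse.map L.h).prod) =
      S.act (l.map L.h).prod * S.act c * (S.act (l.map L.h).prod)⁻¹ := by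
  rw [S.act_mul ((L.word_comm l).mul_left hc) (L.word_comm _), S.act_mul (L.word_comm l) hc, L.act_rev S hT]

theorem card_grp : Nat.card S.grp = 1451520 := by
  show Nat.card S.permHom.range = _
  rw [← Nat.card_congr (MonoidHom.ofInjective S.permHom_injective).toEquiv, natCard_sp6]

/-- The listed elements of the image. -/
def imgSet : Set (Equiv.Perm S.Vz) := {p | ∃ i < 512, ∃ c, L.Cd c (sC i) ∧ S.act c = p}

/-- A generator of the listed subgroup. -/
def sylEl (k : ℕ) : G := ((sylW k).map L.h).prod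

theorem Cd_sylEl {k : ℕ} (hk : k < 6) : L.Cd (L.sylEl k) (sC (k + 1)) := by
  have h := Cd.word L (sylW k)
  rw [wordF_wordE, CoTwoClose.check_sylW k hk] at h
  exact h

theorem step {i k : ℕ} (hi : i < 512) (hk : k < 6) {c : G} (hc : L.Cd c (sC i)) :
    sylN i k < 512 ∧ L.Cd (c * L.sylEl k) (sC (sylN i k)) := by
  have h := List.all_eq_true.1 CoTwoClose.check_step i (List.mem_range.2 hi)
  simp only [CoTwoClose.okStep, List.all_eq_true, List.mem_range, Bool.and_eq_true] at h
  obtain ⟨h1, h2⟩ := h k hk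
  refine ⟨Nat.le_of_ble_eq_true h1, ?_⟩
  have := hc.mulF (L.Cd_sylEl hk)
  rw [Nat.eq_of_beq_eq_true h2 |> fun e : mulF (sC i) (sC (k + 1)) = sC (sylN i k) => e] at this
  exact this

theorem sC_zero : sC 0 = cone := CoTwoClose.check_sylC0

/-- Every listed code belongs to a product of generators. -/
theorem exists_cd {P : G → Prop} (h1 : P 1) (hm : ∀ c, Commute c z → P c → ∀ k < 6, P (c * L.sylEl k)) :
    ∀ {i : ℕ}, i < 512 → ∃ c, L.Cd c (sC i) ∧ P c := by
  intro i
  induction i using Nat.strong_induction_on with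
  | _ i ih =>
    intro hi
    have h := List.all_eq_true.1 CoTwoClose.check_par i (List.mem_range.2 hi)
    simp only [CoTwoClose.okPar, Bool.or_eq_true, Bool.and_eq_true] at h
    rcases h with h | ⟨⟨e1, e2⟩, e3⟩
    · rw [Nat.eq_of_beq_eq_true h, sC_zero]
      exact ⟨1, Cd.one L, h1⟩
    · have hp : (sylP i).1 < i := Nat.le_of_ble_eq_true e1
      obtain ⟨c, hc, hP⟩ := ih _ hp (hp.trans hi)
      obtain ⟨-, h4⟩ := L.step (hp.trans hi) (Nat.le_of_ble_eq_true e2) hc
      rw [Nat.eq_of_beq_eq_true e3] at h4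
      exact ⟨_, h4, hm c hc.comm hP _ (Nat.le_of_ble_eq_true e2)⟩

variable [Finite G]

/-- The listed subgroup of the image. -/
noncomputable def img : Subgroup (Equiv.Perm S.Vz) :=
  Subgroup.closure (Set.range fun k : Fin 6 => S.act (L.sylEl k.val))

theorem mem_img_iff {p : Equiv.Perm S.Vz} : p ∈ L.img S ↔ p ∈ L.imgSet S := by
  haveI := S.space.fin
  have hright : ∀ q ∈ L.imgSet S, ∀ k : Fin 6, q * S.act (L.sylEl k.val) ∈ L.imgSet S := by
    rintro q ⟨i, hi, c, hc, rfl⟩ k
    obtain ⟨h1, h2⟩ := L.step hi k.isLt hc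
    exact ⟨_, h1, _, h2, S.act_mul hc.comm (L.word_comm _)⟩
  constructor
  · intro hp
    refine Subgroup.closure_induction_right (p := fun q _ => q ∈ L.imgSet S)
      ⟨0, by norm_num, 1, by rw [sC_zero]; exact Cd.one L, S.act_one⟩ ?_ ?_ hp
    · rintro q _ _ ⟨k, rfl⟩ hq
      exact hright q hq k
    · rintro q _ _ ⟨k, rfl⟩ hq
      let f : L.imgSet S → L.imgSet S := fun q => ⟨_, hright q q.2 k⟩
      have hf : Function.Injective f := fun a b e => Subtype.ext (mul_right_cancel (congrArg Subtype.val e))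
      obtain ⟨⟨r, hr⟩, e⟩ := (Finite.injective_iff_surjective.1 hf) ⟨q, hq⟩
      have e' : r * S.act (L.sylEl k.val) = q := congrArg Subtype.val e
      rw [← e', mul_inv_cancel_right]
      exact hr
  · rintro ⟨i, hi, c, hc, rfl⟩
    obtain ⟨c', hc', hP⟩ := L.exists_cd (P := fun c => S.act c ∈ L.img S) (by rw [S.act_one]; exact one_mem _)
      (fun d hd hdP k hk => by
        rw [S.act_mul hd (show Commute (L.sylEl k) z from L.word_comm _)]
        exact mul_mem hdP (Subgroup.subset_closure ⟨⟨k, hk⟩, rfl⟩)) hi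
    rwa [(hc.key_iff S hc').1 rfl]

theorem img_le : L.img S ≤ S.grp :=
  (Subgroup.closure_le _).2 (Set.range_subset_iff.2 fun _ => S.act_mem_grp (L.word_comm _))

theorem card_img : Nat.card (L.img S) = 512 := by
  haveI := S.space.fin
  have hex : ∀ i : Fin 512, ∃ c, L.Cd c (sC i.val) := fun i =>
    let ⟨c, hc, _⟩ := L.exists_cd (P := fun _ => True) trivial (fun _ _ _ _ _ => trivial) i.isLt
    ⟨c, hc⟩
  choose f hf using hex
  let F : Fin 512 → L.img S := fun i => ⟨S.act (f i), (L.mem_img_iff S).2 ⟨i, i.isLt, _, hf i, rfl⟩⟩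
  have hF : Function.Bijective F := by
    constructor
    · intro i j e
      have e' := ((hf i).key_iff S (hf j)).2 (congrArg Subtype.val e)
      have hnd := allDiff_nodup check_key_diff
      have := (List.nodup_iff_injective_getElem.1 hnd) (a₁ := ⟨i.val, by simp⟩) (a₂ := ⟨j.val, by simp⟩)
        (by simpa using e')
      exact Fin.ext (Fin.mk.inj_iff.1 this)
    · rintro ⟨p, hp⟩
      obtain ⟨i, hi, c, hc, rfl⟩ := (L.mem_img_iff S).1 hp
      exact ⟨⟨i, hi⟩, Subtype.ext (((hf ⟨i, hi⟩).key_iff S hc).1 rfl)⟩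
  rw [← Nat.card_eq_of_bijective F hF, Nat.card_fin]

/-- A two-element of the image is conjugate into the listed subgroup. -/
theorem exists_conj_img {p : Equiv.Perm S.Vz} (hp : p ∈ S.grp) {n : ℕ} (hn : p ^ 2 ^ n = 1) :
    ∃ d, Commute d z ∧ S.act d * p * (S.act d)⁻¹ ∈ L.imgSet S := by
  haveI := S.space.fin
  haveI : Fact (Nat.Prime 2) := ⟨Nat.prime_two⟩
  have hX : Nat.card ((L.img S).subgroupOf S.grp) = 512 := by
    rw [Nat.card_congr (Subgroup.subgroupOfEquivOfLe (L.img_le S)).toEquiv, L.card_img S]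
  obtain ⟨Q, hQ⟩ := (IsPGroup.of_card (n := 9) (hX.trans (by norm_num)) :
    IsPGroup 2 ((L.img S).subgroupOf S.grp)).exists_le_sylow
  have hQS : (Q : Subgroup S.grp) = (L.img S).subgroupOf S.grp := by
    refine (Subgroup.eq_of_le_of_card_ge hQ ?_).symm
    obtain ⟨m, hm⟩ := IsPGroup.iff_card.1 Q.isPGroup'
    have hd := Subgroup.card_subgroup_dvd_card (Q : Subgroup S.grp)
    rw [hm, card_grp S] at hd
    have hm9 : m ≤ 9 := by
      by_contra h
      have := (pow_dvd_pow 2 (show 10 ≤ m by omega)).trans hd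
      norm_num at this
    rw [hm, hX]
    exact (Nat.pow_le_pow_right (by norm_num) hm9).trans (by norm_num)
  have hz : IsPGroup 2 (Subgroup.zpowers (⟨p, hp⟩ : S.grp)) := by
    obtain ⟨m, -, hm⟩ := (Nat.dvd_prime_pow Nat.prime_two).1
      (orderOf_dvd_of_pow_eq_one (Subtype.ext hn : (⟨p, hp⟩ : S.grp) ^ 2 ^ n = 1))
    exact IsPGroup.of_card (n := m) (by rw [Nat.card_zpowers, hm])
  obtain ⟨R, hR⟩ := hz.exists_le_sylow
  obtain ⟨⟨k, hk⟩, hkR⟩ := MulAction.exists_smul_eq S.grp R Q
  obtain ⟨d, hd, rfl⟩ := S.mem_grp hk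
  refine ⟨d, hd, (L.mem_img_iff S).1 ?_⟩
  have h := Subgroup.smul_mem_pointwise_smul _ (MulAut.conj (⟨S.act d, hk⟩ : S.grp)) _
    (hR (Subgroup.mem_zpowers (⟨p, hp⟩ : S.grp)))
  rw [show MulAut.conj (⟨S.act d, hk⟩ : S.grp) • (R : Subgroup S.grp) = (Q : Subgroup S.grp) from
    congrArg (fun P : Sylow 2 S.grp => (P : Subgroup S.grp)) hkR, hQS] at h
  exact h

end Base

end Cfsg.Agent.CoTwoType
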