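import Cfsg.Agent.Lib.CoTwoType.Twist.ClassB
import Cfsg.Agent.Lib.CoTwoType.CaseR.Main
import Cfsg.Agent.Lib.CoTwoType.WeakClosed

/-
The twisted lifting does not occur (helper33).

* `Base.no_twist_of_wc`, `Setup.no_twist` : twisted coordinates contradict weak closure and triviality of the odd core and centre
-/

set_option autoImplicit false

namespace Cfsg.Agent.CoTwoType

universe u

variable {G : Type u} [Group G] {z : G}

/-- The twisted case does not occur, given weak closure of `z` in the core. -/
theorem Base.no_twist_of_wc [Finite G] (hO : oddCore G = ⊥) (hZ : Subgroup.center G = ⊥) (S : Setup z)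
    (L : Base z) (hT : L.Twist) (hwc : S.WC) : False := by
  obtain ⟨g, hc, hne⟩ := S.exists_conj_comm hO hZ
  obtain ⟨r, hr, e, he, her⟩ := L.exists_rep_conj S hT hwc hc hne
  have h : e * g * z * (e * g)⁻¹ = L.el r := by rw [← her]; group
  rcases hr with rfl | rfl | rfl
  · exact L.not_repA S hT hwc h
  · exact L.not_repB S hT hwc h
  · exact L.not_repC S hT hwc h

/-- The twisted case does not occur. -/
theorem Setup.no_twist [Finite G] (hO : oddCore G = ⊥) (hZ : Subgroup.center G = ⊥) (S : Setup z)
    (L : Base z) (hT : L.Twist) : False :=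
  L.no_twist_of_wc hO hZ S hT fun c h => S.weakly_closed L c h

end Cfsg.Agent.CoTwoType
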