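import Cfsg.Agent.EqLemmas
import Cfsg.Agent.Lib.CoTwoType.SpGen

/-
The spin representation over three elements of the double cover of Sp6(2) (helper33).

* `A3`, `U3` : the seven matrices, satisfying the twisted relations
* `appV` : a word applied to a vector coded in base four
* `toV_appV`, `A3_rel`, `A3_long`
-/

set_option autoImplicit false
set_option maxRecDepth 20000

namespace Cfsg.Agent.CoTwoType.Twist

open Matrix

/-- The rows of the matrices. -/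
def rows : List (List (List ℕ)) :=
  [[[0, 2, 0, 0, 0, 0, 0, 0], [1, 0, 0, 0, 0, 0, 0, 0], [0, 0, 0, 0, 2, 0, 0, 0], [0, 0, 0, 0, 0, 0, 0, 2], [0, 0, 1, 0, 0, 0, 0, 0], [0, 0, 0, 0, 0, 0, 2, 0], [0, 0, 0, 0, 0, 1, 0, 0], [0, 0, 0, 1, 0, 0, 0, 0]],
   [[0, 0, 2, 2, 2, 0, 0, 1], [0, 0, 2, 1, 1, 0, 0, 1], [1, 1, 0, 0, 0, 1, 1, 0], [1, 2, 0, 0, 0, 2, 1, 0], [1, 2, 0, 0, 0, 1, 2, 0], [0, 0, 2, 1, 2, 0, 0, 2], [0, 0, 2, 2, 1, 0, 0, 2], [2, 2, 0, 0, 0, 1, 1, 0]],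
   [[0, 1, 0, 0, 2, 0, 2, 2], [2, 0, 2, 2, 0, 2, 0, 0], [0, 1, 0, 0, 1, 0, 2, 1], [0, 1, 0, 0, 2, 0, 1, 1], [1, 0, 2, 1, 0, 2, 0, 0], [0, 1, 0, 0, 1, 0, 1, 2], [1, 0, 1, 2, 0, 2, 0, 0], [1, 0, 2, 2, 0, 1, 0, 0]],
   [[0, 0, 0, 0, 1, 0, 0, 0], [0, 0, 1, 0, 0, 0, 0, 0], [0, 2, 0, 0, 0, 0, 0, 0], [0, 0, 0, 0, 0, 0, 2, 0], [2, 0, 0, 0, 0, 0, 0, 0], [0, 0, 0, 0, 0, 0, 0, 1], [0, 0, 0, 1, 0, 0, 0, 0], [0, 0, 0, 0, 0, 2, 0, 0]],
   [[0, 0, 1, 1, 2, 0, 0, 1], [0, 0, 2, 1, 2, 0, 0, 2], [2, 1, 0, 0, 0, 2, 1, 0], [2, 2, 0, 0, 0, 1, 1, 0], [1, 1, 0, 0, 0, 1, 1, 0], [0, 0, 1, 2, 2, 0, 0, 2], [0, 0, 2, 2, 2, 0, 0, 1], [2, 1, 0, 0, 0, 1, 2, 0]],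
   [[0, 0, 0, 1, 0, 1, 2, 1], [0, 0, 0, 1, 0, 2, 2, 2], [0, 0, 0, 1, 0, 2, 1, 1], [2, 2, 2, 0, 2, 0, 0, 0], [0, 0, 0, 1, 0, 1, 1, 2], [2, 1, 1, 0, 2, 0, 0, 0], [1, 1, 2, 0, 2, 0, 0, 0], [2, 1, 2, 0, 1, 0, 0, 0]],
   [[0, 0, 0, 0, 0, 2, 0, 0], [0, 0, 0, 0, 0, 0, 1, 0], [0, 0, 0, 2, 0, 0, 0, 0], [0, 0, 1, 0, 0, 0, 0, 0], [0, 0, 0, 0, 0, 0, 0, 1], [1, 0, 0, 0, 0, 0, 0, 0], [0, 2, 0, 0, 0, 0, 0, 0], [0, 0, 0, 0, 2, 0, 0, 0]]]

/-- A digit. -/
def dig (n k : ℕ) : ℕ := n / 4 ^ k % 4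

/-- An entry. -/
def ent (j i k : ℕ) : ℕ := ((rows.getD j []).getD i []).getD k 0

/-- A coordinate of the image. -/
def coord (j n i : ℕ) : ℕ :=
  (ent j i 0 * dig n 0 + ent j i 1 * dig n 1 + ent j i 2 * dig n 2 + ent j i 3 * dig n 3 + ent j i 4 * dig n 4 +
    ent j i 5 * dig n 5 + ent j i 6 * dig n 6 + ent j i 7 * dig n 7) % 3

/-- A coded vector under one matrix. -/
def app3 (j n : ℕ) : ℕ :=
  coord j n 0 + 4 * (coord j n 1 + 4 * (coord j n 2 + 4 * (coord j n 3 + 4 * (coord j n 4 + 4 * (coord j n 5 +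
    4 * (coord j n 6 + 4 * coord j n 7))))))

/-- A coded vector under a word. -/
def appV (l : List (Fin 7)) (n : ℕ) : ℕ := l.foldr (fun j m => app3 j.val m) n

/-- The vector of a code. -/
def toV (n : ℕ) : Fin 8 → ZMod 3 := fun i => (dig n i.val : ZMod 3)

/-- The matrices. -/
def A3 (j : Fin 7) : Matrix (Fin 8) (Fin 8) (ZMod 3) := Matrix.of fun i k => (ent j.val i.val k.val : ZMod 3)

theorem dig_pack (a : Fin 8 → ℕ) (h : ∀ i, a i < 3) (i : Fin 8) :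
    dig (a 0 + 4 * (a 1 + 4 * (a 2 + 4 * (a 3 + 4 * (a 4 + 4 * (a 5 + 4 * (a 6 + 4 * a 7))))))) i.val = a i := by
  have := h 0; have := h 1; have := h 2; have := h 3
  have := h 4; have := h 5; have := h 6; have := h 7
  unfold dig
  fin_cases i <;> simp only [Fin.reduceFinMk] <;> norm_num <;> omega

theorem dig_app3 (j n : ℕ) (i : Fin 8) : dig (app3 j n) i.val = coord j n i.val :=
  dig_pack (fun i => coord j n i.val) (fun _ => Nat.mod_lt _ (by norm_num)) i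

theorem toV_app3 (j : Fin 7) (n : ℕ) : toV (app3 j.val n) = A3 j *ᵥ toV n := by
  funext i
  show ((dig (app3 j.val n) i.val : ℕ) : ZMod 3) = _
  rw [dig_app3, coord, ZMod.natCast_mod]
  simp [Matrix.mulVec, dotProduct, Fin.sum_univ_eight, A3, toV]

theorem toV_appV : ∀ (l : List (Fin 7)) (n : ℕ), toV (appV l n) = (l.map A3).prod *ᵥ toV n
  | [], n => by simp [appV]
  | j :: l, n => by
    rw [List.map_cons, List.prod_cons, ← Matrix.mulVec_mulVec, ← toV_appV l n, ← toV_app3]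
    rfl

theorem toV_basis : ∀ k : Fin 8, toV (4 ^ k.val) = Pi.single k 1 ∧ toV (2 * 4 ^ k.val) = -Pi.single k 1 := by
  decide +kernel

/-- A word acting as a scalar. -/
def scal (c : ℕ) (l : List (Fin 7)) : Bool := (List.range 8).all fun k => appV l (4 ^ k) == c * 4 ^ k

theorem prod_scal {l : List (Fin 7)} :
    (scal 1 l = true → (l.map A3).prod = 1) ∧ (scal 2 l = true → (l.map A3).prod = -1) := by
  constructor <;> intro h <;> simp only [scal, List.all_eq_true, List.mem_range, beq_iff_eq] at h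
  · ext i k
    have e := congrFun (toV_appV l (4 ^ k.val)) i
    rw [h k k.isLt, one_mul, (toV_basis k).1, Matrix.mulVec_single_one] at e
    rw [Matrix.col_apply] at e
    rw [← e, Matrix.one_apply, Pi.single_apply]
  · ext i k
    have e := congrFun (toV_appV l (4 ^ k.val)) i
    rw [h k k.isLt, (toV_basis k).2, (toV_basis k).1, Matrix.mulVec_single_one] at e
    rw [Matrix.col_apply] at e
    rw [← e, Matrix.neg_apply, Matrix.one_apply, Pi.neg_apply, Pi.single_apply]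

theorem sq_check : ∀ j, scal 2 [j, j] = true := by decide +kernel

theorem rel_scal : ∀ i j, scal (if cexp i j = 3 then 1 else 2) (List.replicate (cexp i j) [i, j]).flatten = true := by
  decide +kernel

theorem long_scal : scal 1 longW = true := by decide +kernel

theorem A3_sq (j : Fin 7) : A3 j * A3 j = -1 := by simpa using prod_scal.2 (sq_check j)

/-- The invertible matrices. -/
def U3 (j : Fin 7) : (Matrix (Fin 8) (Fin 8) (ZMod 3))ˣ where
  val := A3 j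
  inv := -A3 j
  val_inv := by rw [mul_neg, A3_sq, neg_neg]
  inv_val := by rw [neg_mul, A3_sq, neg_neg]

theorem val_prod (l : List (Fin 7)) : ((l.map U3).prod).val = (l.map A3).prod := by
  induction l with
  | nil => rfl
  | cons j l ih => simp only [List.map_cons, List.prod_cons, Units.val_mul, ih]; rfl

theorem U3_rel (i j : Fin 7) : (U3 i * U3 j) ^ cexp i j = if cexp i j = 3 then 1 else -1 := by
  rw [← prod_replicate_pair]
  refine Units.ext ?_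
  rw [val_prod]
  have h := rel_scal i j
  by_cases h3 : cexp i j = 3
  · rw [if_pos h3] at h ⊢
    rw [prod_scal.1 h]; rfl
  · rw [if_neg h3] at h ⊢
    rw [prod_scal.2 h]; rfl

theorem U3_long : (longW.map U3).prod = 1 := Units.ext (by rw [val_prod, prod_scal.1 long_scal]; rfl)

/-- The first basis vector moved to itself or its negative by a scalar word. -/
theorem appV_one {l : List (Fin 7)} {c : ℕ} (h : appV l 1 = c) :
    (l.map A3).prod *ᵥ toV 1 = toV c := by rw [← toV_appV, h]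

end Cfsg.Agent.CoTwoType.Twist
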