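import Cfsg.Agent.Lib.CoTwoType.Twist.Codes
import Cfsg.Agent.Lib.CoTwoType.Twist.Data
import Cfsg.Agent.Lib.CoTwoClose.SylowData

/-
The certificate tests of the twisted centraliser (helper33).

* `okInv`, `okSq`, `okLift`, `okTree`, `fixV`, `okFlip` : the tests run in `Checks`
-/

set_option autoImplicit false
set_option maxRecDepth 20000

namespace Cfsg.Agent.CoTwoType.Twist

open CoTwoClose (mulF cone)

/-- A code of the Sylow subgroup. -/
def sC (i : ℕ) : ℕ := CoTwoClose.ClassData.sElts.getD i 0

/-- The position of a listed involution. -/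
def sI (n : ℕ) : ℕ := CoTwoClose.ClassData.sInv.getD n 0

/-- The word of a class. -/
def tW (m : ℕ) : List (Fin 7) := Data.tw.getD m []

/-- The central bit of a word squared. -/
def sqBit (m : ℕ) : ℕ := bif appV (tW m ++ tW m) 1 == 2 then 256 else 0

/-- The lift of a class with the given vector is an involution. -/
def isInv (m v : ℕ) : Bool := qm (qm v (actW (tW m) v)) (sqBit m) == 0

/-- Pairwise different entries. -/
def allDiff : List ℕ → Bool
  | [] => true
  | k :: ks => !ks.contains k && allDiff ks

/-- The certificate of an involution of the Sylow subgroup. -/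
def okInv (n : ℕ) : Bool :=
  sI n == 0 || (decide ((Data.invCls.getD n (0, [])).1 < 4) &&
    keyC (mulF (mulF (wordF (Data.invCls.getD n (0, [])).2) (sC (sI n))) (wordF (Data.invCls.getD n (0, [])).2.reverse)) ==
      keyC (wordF (tW (Data.invCls.getD n (0, [])).1)))

/-- An element of order at most two is listed. -/
def okListed (i : ℕ) : Bool :=
  CoTwoClose.ClassData.sInv.contains i || keyC (mulF (sC i) (sC i)) != keyC cone

/-- The square of an element of order four is in the second or third class. -/
def okSq (i : ℕ) : Bool :=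
  keyC (mulF (sC i) (sC i)) == keyC cone ||
    keyC (mulF (mulF (sC i) (sC i)) (mulF (sC i) (sC i))) != keyC cone ||
    (decide (Data.sqIdx.getD i 0 < 144) && sI (Data.sqIdx.getD i 0) != 0 &&
      ((Data.invCls.getD (Data.sqIdx.getD i 0) (0, [])).1 == 1 || (Data.invCls.getD (Data.sqIdx.getD i 0) (0, [])).1 == 2) &&
      keyC (mulF (sC i) (sC i)) == keyC (sC (sI (Data.sqIdx.getD i 0))))

/-- The lifts are carried to the representatives. -/
def okLift (m : ℕ) (L : List (ℕ × ℕ × (ℕ × List (Fin 7)))) (rs : List ℕ) (v : ℕ) : Bool :=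
  !isInv m v || L.any fun p => p.1 == v && rs.contains p.2.1 && decide (p.2.2.1 < 512) &&
    sameT (mulP p.2.2 (p.2.1, tW m)) (mulP (v, tW m) p.2.2)

/-- Two pairs commute. -/
def commP (a b : ℕ × List (Fin 7)) : Bool := sameT (mulP a b) (mulP b a)

/-- A tree of codes. -/
def okTree (op : ℕ → ℕ → ℕ) (gens : List ℕ) (root : ℕ) (L : List (ℕ × ℕ × ℕ)) : Bool :=
  (List.range L.length).all fun i =>
    if i = 0 then (L.getD i (0, 0, 0)).1 == root
    else decide ((L.getD i (0, 0, 0)).2.1 < i) && decide ((L.getD i (0, 0, 0)).2.2 < gens.length) &&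
      (L.getD i (0, 0, 0)).1 == op (L.getD (L.getD i (0, 0, 0)).2.1 (0, 0, 0)).1 (gens.getD (L.getD i (0, 0, 0)).2.2 0)

/-- Conjugation of a code by a coded word. -/
def conjOp (e g : ℕ) : ℕ := mulF (mulF (g >>> 81) e) (g &&& (2 ^ 81 - 1))

/-- A word and its reverse as one number. -/
def conjGen (w : List (Fin 7)) : ℕ := (wordF w <<< 81) + wordF w.reverse

/-- Conjugation of the core by a pair. -/
def innP (d : ℕ × List (Fin 7)) (q : ℕ) : ℕ := qm (qm d.1 (actW d.2 q)) (invQ d.1)

/-- A vector fixed by a pair. -/
def fixV (d : ℕ × List (Fin 7)) (q : ℕ) : Bool := innP d q == q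

/-- The radical. -/
def radA : List ℕ := [0, 1, 4, 5, 8, 9, 12, 13]

/-- A central involution of the centraliser in the core is moved by the centre. -/
def okFlip (q : ℕ) : Bool :=
  q == 0 || q == 256 || qm q q != 0 || !fixV (1, tW 2) q ||
    !(Data.cenA.all fun r => qm q r == qm r q) ||
    Data.flips.any fun p => p.1 == q && decide (p.2.1 < 512) && innP p.2 q == q ^^^ 256 && commP p.2 (1, tW 2)

/-- A vector is a sum from the centraliser and the complement. -/
def okSpan (v : ℕ) : Bool :=
  Data.cenA.any fun u => [0, 16, 32, 48, 128, 144, 160, 176].any fun s => qm u s % 256 == v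

/-- The number of fixed vectors of a word. -/
def fixCount (w : List (Fin 7)) : ℕ := (List.range 256).countP fun v => CoTwoClose.appF (wordF w) v % 256 == v

end Cfsg.Agent.CoTwoType.Twist
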