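import Cfsg.Agent.Lib.CoTwoType.Twist.Spin
import Cfsg.Agent.Lib.CoTwoType.C0
import Cfsg.Agent.Lib.CoTwoType.CaseR.Local

/-
Signs of words in twisted lifts (helper33).

* `Base.x_memQ`, `Base.exists_x` : the letters `x v` and the core
* `Base.act_h_ne` : a lift acts nontrivially
* `Base.word_sign` : a word acting trivially modulo the centre is `1` or `z` as its spin matrix is `1` or `-1`
-/

set_option autoImplicit false
set_option linter.style.haveILetI false
set_option maxRecDepth 20000

namespace Cfsg.Agent.CoTwoType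

open Cfsg.Agent.Multiplier.Sp6 Twist

attribute [local irreducible] T

universe u

variable {G : Type u} [Group G] {z : G}

namespace Base

variable (L : Base z) (S : Setup z)

theorem mem_Q_iff {c : G} : c ∈ S.Q ↔ ∃ v < 512, L.x v = c := by
  rw [← S.pcore]; exact L.Q_eq c

theorem x_memQ {v : ℕ} (hv : v < 512) : L.x v ∈ S.Q := (L.mem_Q_iff S).2 ⟨v, hv, rfl⟩

theorem h_commute (l : List (Fin 7)) : Commute (l.map L.h).prod z := L.word_comm l

theorem act_h_ne : S.act (L.h 0) ≠ 1 := by
  intro h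
  obtain ⟨m, hm, e⟩ := (L.mem_Q_iff S).1 ((S.act_eq_one (L.h_z 0)).1 h)
  have h2 := L.h_conj 0 1 (by norm_num)
  rw [← e, L.x_inv hm, L.x_mul m hm 1 (by norm_num), L.x_mul _ (qm_lt m hm 1 (by norm_num)) _ (invQ_spec m hm).1] at h2
  have h3 := L.x_inj _ (qm_lt _ (qm_lt m hm 1 (by norm_num)) _ (invQ_spec m hm).1) _
    (sig_lt (0 : Fin 7).val (by norm_num) 1 (by norm_num)) h2
  refine move_check ⟨m, hm⟩ ?_
  rw [h3]
  rfl

variable (hT : L.Twist)
include hT

theorem word_sign {l : List (Fin 7)} (h : S.act (l.map L.h).prod = 1) :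
    (appV l 1 = 1 → (l.map L.h).prod = 1) ∧ (appV l 1 = 2 → (l.map L.h).prod = z) := by
  let K := (Matrix (Fin 8) (Fin 8) (ZMod 3))ˣ
  let P := ↥(Subgroup.centralizer ({z} : Set G)) × K
  let zC : ↥(Subgroup.centralizer ({z} : Set G)) := ⟨z, mem_cent_iff.2 rfl⟩
  let n0 : P := (zC, -1)
  have hn0 : ∀ p : P, p * n0 = n0 * p := fun p => Prod.ext (Subtype.ext (mem_cent_iff.1 p.1.2).eq) (by
    show p.2 * -1 = -1 * p.2
    rw [mul_neg_one, neg_one_mul])
  have hn2 : n0 * n0 = 1 := Prod.ext (Subtype.ext S.zz) ((neg_mul_neg (1 : K) 1).trans (one_mul 1))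
  let N : Subgroup P := Subgroup.zpowers n0
  haveI : N.Normal := ⟨fun n hn p => by
    obtain ⟨k, rfl⟩ := Subgroup.mem_zpowers_iff.1 hn
    have hc : Commute p n0 := hn0 p
    rw [(hc.zpow_right k).eq, mul_inv_cancel_right]
    exact Subgroup.mem_zpowers_iff.2 ⟨k, rfl⟩⟩
  let f : Fin 7 → P := fun j => (⟨L.h j, mem_cent_iff.2 (L.h_z j)⟩, U3 j)
  let π : P →* P ⧸ N := QuotientGroup.mk' N
  have hN : ∀ p : P, p = 1 ∨ p = n0 → π p = 1 := fun p hp => (QuotientGroup.eq_one_iff p).2 (by
    rcases hp with rfl | rfl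
    exacts [one_mem _, Subgroup.mem_zpowers _])
  have hrel : ∀ i j, ((π ∘ f) i * (π ∘ f) j) ^ cexp i j = 1 := by
    intro i j
    show (π (f i) * π (f j)) ^ cexp i j = 1
    rw [← map_mul, ← map_pow]
    refine hN _ ?_
    have h2 : ((f i * f j) ^ cexp i j).2 = if cexp i j = 3 then 1 else -1 := U3_rel i j
    have h1 : (((f i * f j) ^ cexp i j).1 : G) = (L.h i * L.h j) ^ cexp i j := rfl
    rcases (show cexp i j = 1 ∨ cexp i j = 2 ∨ cexp i j = 3 by unfold cexp; split_ifs <;> simp) with e | e | e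
    · right
      have hij : i = j := by
        by_contra hne
        unfold cexp at e
        rw [if_neg hne] at e
        split_ifs at e <;> omega
      refine Prod.ext (Subtype.ext (h1.trans ?_)) (h2.trans (by rw [e]; rfl))
      rw [e, pow_one, hij, hT.sq]
    · right
      exact Prod.ext (Subtype.ext (h1.trans (by rw [e, hT.far i j e]))) (h2.trans (by rw [e]; rfl))
    · left
      exact Prod.ext (Subtype.ext (h1.trans (by rw [e, hT.adj i j e]; rfl))) (h2.trans (by rw [e]; rfl))
  have pr1 : ∀ w : List (Fin 7), (((w.map f).prod).1 : G) = (w.map L.h).prod ∧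
      ((w.map f).prod).2 = (w.map U3).prod := by
    intro w
    induction w with
    | nil => exact ⟨rfl, rfl⟩
    | cons j w ih =>
      simp only [List.map_cons, List.prod_cons]
      exact ⟨by rw [← ih.1]; rfl, by rw [← ih.2]; rfl⟩
  have hlong : (longW.map (π ∘ f)).prod = 1 := by
    rw [← List.map_map, ← map_list_prod]
    refine hN _ (Or.inl (Prod.ext (Subtype.ext ((pr1 longW).1.trans hT.long)) ((pr1 longW).2.trans U3_long)))
  obtain ⟨ψ, hψ⟩ := exists_hom (π ∘ f) hrel hlong
  let actC : P →* Equiv.Perm S.Vz :=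
    { toFun := fun p => S.act p.1
      map_one' := S.act_one
      map_mul' := fun p q => S.act_mul (mem_cent_iff.1 p.1.2) (mem_cent_iff.1 q.1.2) }
  have hker : N ≤ actC.ker := Subgroup.zpowers_le.2 ((S.act_eq_one rfl).2 S.z_mem)
  let α : G0 →* Equiv.Perm S.Vz := (QuotientGroup.lift N actC hker).comp ψ
  have hinj : α.ker = ⊥ := by
    haveI := isSimpleGroup_G0
    refine (inferInstance : α.ker.Normal).eq_bot_or_eq_top.resolve_right fun htop => L.act_h_ne S ?_
    have h0 : α (T 0) = 1 := MonoidHom.mem_ker.1 (htop ▸ Subgroup.mem_top _)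
    rw [MonoidHom.comp_apply, hψ] at h0
    exact h0
  have hw : ψ (wp l) = π (l.map f).prod := by
    rw [wp, map_list_prod, List.map_map, map_list_prod π, List.map_map]
    congr 2
    exact funext hψ
  have hα : α (wp l) = 1 := by
    rw [MonoidHom.comp_apply, hw]
    show S.act ((l.map f).prod).1 = 1
    rw [(pr1 l).1, h]
  have hwl : wp l = 1 := by
    rw [← Subgroup.mem_bot, ← hinj]
    exact MonoidHom.mem_ker.2 hα
  rw [hwl, map_one] at hw
  obtain ⟨k, hk⟩ := Subgroup.mem_zpowers_iff.1 ((QuotientGroup.eq_one_iff _).1 hw.symm)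
  have hcase : (l.map f).prod = 1 ∨ (l.map f).prod = n0 := by
    rw [← hk]
    rcases Int.even_or_odd k with ⟨m, rfl⟩ | ⟨m, rfl⟩
    · left; rw [← two_mul, zpow_mul, zpow_two, hn2, one_zpow]
    · right; rw [zpow_add, zpow_mul, zpow_two, hn2, one_zpow, one_mul, zpow_one]
  obtain ⟨e1, e2⟩ := pr1 l
  rcases hcase with e | e <;> rw [e] at e1 e2 <;>
    refine ⟨fun ha => ?_, fun ha => ?_⟩
  · exact e1.symm
  · exfalso
    have := appV_one ha
    rw [← val_prod, ← e2] at this
    simp only [Prod.snd_one, Units.val_one, Matrix.one_mulVec] at this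
    exact absurd this (by decide +kernel)
  · exfalso
    have := appV_one ha
    rw [← val_prod, ← e2] at this
    simp only [n0, Units.val_neg, Units.val_one, Matrix.neg_mulVec, Matrix.one_mulVec] at this
    exact absurd this (by decide +kernel)
  · exact e1.symm

end Base

end Cfsg.Agent.CoTwoType
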